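import Groth.Agent.Krr.H488.KThy

/-!
# The projective bundle theorem for `K(P)` with an atlas
-/

set_option autoImplicit false

universe u v w

open CategoryTheory CategoryTheory.Limits AlgebraicGeometry Finset Filter

namespace Groth.Agent.Krr.H488.PBK

open Groth.Agent.Krr.H488.PicZ Groth.Agent.Krr.H488.Chart Groth.Agent.Krr.H488.Atlas
  Groth.Agent.Krr.H488.RegB Groth.Agent.Krr.H488.KThy Groth.Agent.Sga67
open Groth.Agent.Krr.H482.PullLambda
open Scheme.Modules KRR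

variable {r : ℕ} {X P : Scheme.{u}} {π : P ⟶ X} {O1 : P.Modules}
  {ι : Type} {A : ι → Type u} [∀ i, CommRing (A i)] {h : ∀ i, Spec (CommRingCat.of (A i)) ⟶ X}
  [∀ i, IsOpenImmersion (h i)] (𝔸 : Atlas r π O1 A h) (hO : PicF.IsInvertible O1)

section Rel

variable {KX : Type v} [CommRing KX] [LambdaRing.LambdaOps KX] {PX : LambdaRing.PosStructure KX}
  {φX : SGA6.Kvb X →+ KX} (hKX : IsModel X KX PX φX)
  {KP : Type w} [CommRing KP] [LambdaRing.LambdaOps KP] {PP : LambdaRing.PosStructure KP}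
  {φP : SGA6.Kvb P →+ KP} (hKP : IsModel P KP PP φP)
  {g : KX →+ KP} (hg : IsPull π φX φP g)

include 𝔸 hKX hg in
/-- The relation of degree `r + 1` satisfied by `ℓ`. -/
theorem rel : (ell hKP hO : KP) ^ (r + 1) = ∑ i ∈ range (r + 1),
    (-1) ^ i * g (eC φX π hO (F0 π hO) i) * (ell hKP hO : KP) ^ (r - i) := by
  have h1 := cl_resol hKP hg (reg_F0 𝔸 hO)
  rw [cl_F0 hKX hKP hg hO] at h1
  have h2 : (ell hKP hO : KP) * ∑ i ∈ range (r + 1),
      (-1) ^ i * g (eC φX π hO (F0 π hO) i) * (ell hKP hO : KP) ^ (r - i) =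
      ∑ i ∈ range (r + 1), (-1) ^ i * g (eC φX π hO (F0 π hO) i) * (ell hKP hO : KP) ^ (r + 1 - i) := by
    rw [mul_sum]
    refine sum_congr rfl fun i hi => ?_
    have hi' := mem_range.1 hi
    have e : r + 1 - i = (r - i) + 1 := by omega
    rw [e, pow_succ]
    ring
  exact (Units.mul_right_inj (ell hKP hO)).1 (h1.trans h2.symm)

/-- An elementary cancellation. -/
theorem cancel_aux {K : Type w} [CommRing K] (u : Kˣ) (n m : ℕ) (y : K) :
    y = ((u ^ (-(n : ℤ) - (m : ℤ)) : Kˣ) : K) * (((u ^ (n : ℤ) : Kˣ) : K) * y * (u : K) ^ m) := by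
  have h1 : (((u ^ (-(n : ℤ) - (m : ℤ)) : Kˣ) : K) * ((u ^ (n : ℤ) : Kˣ) : K)) * (u : K) ^ m = 1 := by
    rw [← Units.val_mul, ← Units.val_pow_eq_pow_val, ← Units.val_mul, ← zpow_natCast u m, ← zpow_add, ← zpow_add,
      ← Units.val_one]
    congr 1
    have : -(n : ℤ) - m + n + m = 0 := by ring
    rw [this, zpow_zero]
  calc y = 1 * y := (one_mul y).symm
    _ = _ := by rw [← h1]; ring

include 𝔸 hg in
/-- `K(P)` is generated by the elements `ℓ^d π^K(x)`. -/
theorem gen [Finite ι] (hserre : ∀ i, HypFields559.SerreProp r (A i)) (M : AddSubgroup KP)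
    (hM : ∀ (d : ℤ) (x : KX), ((ell hKP hO ^ d : KPˣ) : KP) * g x ∈ M) : M = ⊤ := by
  rw [eq_top_iff]
  rintro x -
  refine model_induction hKP (C := fun x => x ∈ M) (fun m E _ hE => ?_) (fun a b ha hb => M.sub_mem ha hb) x
  have hE' := isFinLocFree_of_rank hE
  obtain ⟨n, hn⟩ := reg_mem 𝔸 hO hserre E hE'
  have hR := hn n le_rfl
  have h1 := cl_resol hKP hg hR
  rw [cl_tw' hKP hO n hE'] at h1
  rw [cancel_aux (ell hKP hO) n (r + 1) (φP (cl P E)), h1, mul_sum]
  refine M.sum_mem fun i _ => ?_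
  have h2 : ((ell hKP hO ^ (-(n : ℤ) - ((r + 1 : ℕ) : ℤ)) : KPˣ) : KP) *
      ((-1) ^ i * g (eC φX π hO ((tw hO (n : ℤ)).obj E) i) * (ell hKP hO : KP) ^ (r + 1 - i)) =
      (-1) ^ i * (((ell hKP hO ^ (-(n : ℤ) - ((r + 1 : ℕ) : ℤ) + ((r + 1 - i : ℕ) : ℤ)) : KPˣ) : KP) *
        g (eC φX π hO ((tw hO (n : ℤ)).obj E) i)) := by
    rw [zpow_add, Units.val_mul, zpow_natCast, Units.val_pow_eq_pow_val]
    ring
  rw [h2]
  rcases neg_one_pow_eq_or KP i with h3 | h3
  · rw [h3, one_mul]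
    exact hM _ _
  · rw [h3, neg_one_mul]
    exact M.neg_mem (hM _ _)

end Rel

section Germ

variable {KX : Type v} [CommRing KX] (φX : SGA6.Kvb X →+ KX)

/-- The Hilbert function `n ↦ [π_* F(n)]`. -/
noncomputable def hilb (π : P ⟶ X) (hO : PicF.IsInvertible O1) (F : P.Modules) (n : ℕ) : KX :=
  φX (cl X ((pushforward π).obj ((tw hO (n : ℤ)).obj F)))

include 𝔸 in
/-- The Hilbert function is eventually additive. -/
theorem hilb_add [Finite ι] (hserre : ∀ i, HypFields559.SerreProp r (A i)) (S : ShortComplex P.Modules)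
    (h₁ : FlatMod.IsFinLocFree S.X₁) (h₂ : FlatMod.IsFinLocFree S.X₂) (h₃ : FlatMod.IsFinLocFree S.X₃)
    (hS : S.ShortExact) :
    ∃ N : ℕ, ∀ n : ℕ, N ≤ n → hilb φX π hO S.X₂ n = hilb φX π hO S.X₁ n + hilb φX π hO S.X₃ n := by
  obtain ⟨n1, h1'⟩ := reg_mem 𝔸 hO hserre S.X₁ h₁
  obtain ⟨n2, h2'⟩ := reg_mem 𝔸 hO hserre S.X₂ h₂
  obtain ⟨n3, h3'⟩ := reg_mem 𝔸 hO hserre S.X₃ h₃
  refine ⟨n1 + n2 + n3, fun n hn => ?_⟩
  have hlim := preservesFiniteLimits_tw hO (n : ℤ)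
  have hcolim := preservesFiniteColimits_tw hO (n : ℤ)
  have hadd : (tw hO (n : ℤ)).Additive := Functor.additive_of_preserves_binary_products _
  have hC : (S.map (tw hO (n : ℤ))).ShortExact := hS.map_of_exact _
  have hR1 := h1' n (by omega)
  have hR2 := h2' n (by omega)
  have hR3 := h3' n (by omega)
  have h4 := shortExact_push (𝔸 := 𝔸) (hO := hO) hC hR1 hR3.vb
  have h5 := Sga67.KvbRing.c_ses h4 hR1.vb_push hR2.vb_push hR3.vb_push
  unfold hilb
  rw [← map_add]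
  exact congrArg φX h5

/-- The germ at infinity of the Hilbert function, on `K(P)`. -/
noncomputable def germ₀ [Finite ι] (hserre : ∀ i, HypFields559.SerreProp r (A i)) :
    SGA6.Kvb P →+ Germ (atTop : Filter ℕ) KX :=
  Sga67.KvbRing.lift (fun F => ((hilb φX π hO F.1 : ℕ → KX) : Germ (atTop : Filter ℕ) KX))
    (fun S h₁ h₂ h₃ hS => by
      obtain ⟨N, hN⟩ := hilb_add 𝔸 hO φX hserre S h₁ h₂ h₃ hS
      change ((hilb φX π hO S.X₂ : ℕ → KX) : Germ (atTop : Filter ℕ) KX) =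
        ((hilb φX π hO S.X₁ : ℕ → KX) : Germ (atTop : Filter ℕ) KX) +
          ((hilb φX π hO S.X₃ : ℕ → KX) : Germ (atTop : Filter ℕ) KX)
      rw [← Germ.coe_add, Germ.coe_eq]
      exact eventually_atTop.2 ⟨N, fun n hn => hN n hn⟩)

theorem germ₀_cl [Finite ι] (hserre : ∀ i, HypFields559.SerreProp r (A i)) {F : P.Modules}
    (hF : FlatMod.IsFinLocFree F) : germ₀ 𝔸 hO φX hserre (cl P F) =
      ((hilb φX π hO F : ℕ → KX) : Germ (atTop : Filter ℕ) KX) :=
  Sga67.KvbRing.lift_c _ _ F hF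

variable [LambdaRing.LambdaOps KX] {PX : LambdaRing.PosStructure KX}
  {φX} (hKX : IsModel X KX PX φX)
  {KP : Type w} [CommRing KP] [LambdaRing.LambdaOps KP] {PP : LambdaRing.PosStructure KP}
  {φP : SGA6.Kvb P →+ KP} (hKP : IsModel P KP PP φP)
  {g : KX →+ KP} (hg : IsPull π φX φP g)

variable (φX) in
/-- The germ at infinity of the Hilbert function, on the model. -/
noncomputable def germM [Finite ι] (hserre : ∀ i, HypFields559.SerreProp r (A i)) :
    KP →+ Germ (atTop : Filter ℕ) KX :=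
  (germ₀ 𝔸 hO φX hserre).comp (AddEquiv.ofBijective φP hKP.bijective).symm.toAddMonoidHom

theorem germM_apply [Finite ι] (hserre : ∀ i, HypFields559.SerreProp r (A i)) (x : SGA6.Kvb P) :
    germM 𝔸 hO φX hKP hserre (φP x) = germ₀ 𝔸 hO φX hserre x := by
  have h1 : (AddEquiv.ofBijective φP hKP.bijective).symm (φP x) = x :=
    (AddEquiv.ofBijective φP hKP.bijective).symm_apply_apply x
  change germ₀ 𝔸 hO φX hserre ((AddEquiv.ofBijective φP hKP.bijective).symm (φP x)) = _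
  rw [h1]

include hKX hg in
theorem germM_mul [Finite ι] (hserre : ∀ i, HypFields559.SerreProp r (A i)) (i : ℕ) (x : KX) :
    germM 𝔸 hO φX hKP hserre (g x * (ell hKP hO : KP) ^ i) =
      ((fun n => x * sC φX π hO (n + i) : ℕ → KX) : Germ (atTop : Filter ℕ) KX) := by
  refine model_induction hKX (C := fun x => germM 𝔸 hO φX hKP hserre (g x * (ell hKP hO : KP) ^ i) =
      ((fun n => x * sC φX π hO (n + i) : ℕ → KX) : Germ (atTop : Filter ℕ) KX)) (fun m E _ hE => ?_)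
    (fun a b ha hb => ?_) x
  · have hE' := isFinLocFree_of_rank hE
    have hpE := PerfB.FlatPull.isFinLocFree_pullback π hE'
    have h1 : g (φX (cl X E)) * (ell hKP hO : KP) ^ i =
        φP (cl P ((tw hO (i : ℤ)).obj ((Scheme.Modules.pullback π).obj E))) := by
      rw [cl_tw' hKP hO i hpE, hg _ hE', zpow_natCast, Units.val_pow_eq_pow_val, mul_comm]
    rw [h1, germM_apply, germ₀_cl 𝔸 hO φX hserre (isFinLocFree_tw hO _ _ hpE)]
    congr 1
    funext n
    have h2 := cl_push_tw_pull hKX 𝔸 hO (n + i) hE'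
    rw [← h2, hilb]
    congr 1
    obtain ⟨e⟩ := nonempty_tw_tw hO (n : ℤ) i ((Scheme.Modules.pullback π).obj E)
    exact (cl_iso ((pushforward π).mapIso e).symm (isFinLocFree_push_tw_pull 𝔸 hO (n + i) hE')).symm
  · rw [map_sub, sub_mul, map_sub, ha, hb, ← Germ.coe_sub]
    congr 1
    funext n
    simp [sub_mul]

end Germ

section Final

variable {KX : Type v} [CommRing KX] [LambdaRing.LambdaOps KX] {PX : LambdaRing.PosStructure KX}
  {φX : SGA6.Kvb X →+ KX} (hKX : IsModel X KX PX φX)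
  {KP : Type w} [CommRing KP] [LambdaRing.LambdaOps KP] {PP : LambdaRing.PosStructure KP}
  {φP : SGA6.Kvb P →+ KP} (hKP : IsModel P KP PP φP)
  {g : KX →+ KP} (hg : IsPull π φX φP g)

include 𝔸 hO hKX hKP hg in
/-- **Projective bundle theorem**: `K(P)` is free over `K(X)` with basis `1, ℓ, …, ℓ^r`, for any
`π : P ⟶ X` with an atlas of charts `(P^r_{A_i}, O(1))`. -/
theorem bijective [Finite ι] [ConnectedSpace X] (hserre : ∀ i, HypFields559.SerreProp r (A i)) :
    Function.Bijective (fun a : Fin (r + 1) → KX => ∑ i : Fin (r + 1), g (a i) * φP (cl P O1) ^ (i : ℕ)) := by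
  have h1 := Alg.bijective_of (pullRingHom hKP hKX hg) (ell hKP hO) r (eC φX π hO (F0 π hO)) (sC φX π hO)
    (isUnit_eC hKX 𝔸 hO) (rel 𝔸 hO hKX hKP hg) (gen 𝔸 hO hKP hg hserre) (sC_zero hKX 𝔸 hO)
    (sC_rec hKX 𝔸 hO) (germM 𝔸 hO φX hKP hserre) (germM_mul 𝔸 hO hKX hKP hg hserre)
  simp only [ell_val, pullRingHom_apply] at h1
  exact h1

end Final

end Groth.Agent.Krr.H488.PBK
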