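import Groth.Agent.Sga67.HypFields559
import Groth.Agent.Sga67.SerreVB2

/-!
# Serre's theorem for bundles on `P^r_A`, in the form `HypFields559.SerreProp`

Copy of the helper lemmas of the file of the milestone for the trivial bundle, as an importable module.
-/

set_option autoImplicit false
universe u
open CategoryTheory CategoryTheory.Limits AlgebraicGeometry

namespace Groth.Agent.Krr.H488.Serre

open Groth.Agent.Sga67.TwistOver Groth.Agent.Sga67.TwistProj Groth.Agent.Ega3A.PChart
open Groth.Agent.Sga67.HypFields559 Groth.Agent.Sga67 Groth.Agent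

/-- Finite presentation of `H^0` in terms of the direct image on `Spec A`. -/
theorem finitePresentation_push (r : ℕ) (A : Type u) [CommRing A]
    (M : (CohB1.ProjSpace r A).Modules)
    (hM : Module.FinitePresentation A (Coh.HH (CohB1.ProjSpace r A) M 0)) :
    Module.FinitePresentation Γ(Spec (CommRingCat.of A), ⊤)
      Γ((Scheme.Modules.pushforward (CohB1.ProjSpace.toSpec r A)).obj M, ⊤) := by
  let N := (Scheme.Modules.pushforward (CohB1.ProjSpace.toSpec r A)).obj M
  let B := Γ(Spec (CommRingCat.of A), ⊤)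
  let φ : A →+* B := (Scheme.ΓSpecIso (CommRingCat.of A)).inv.hom
  let ψ : B →+* A := (Scheme.ΓSpecIso (CommRingCat.of A)).hom.hom
  have hφψ : ∀ b : B, φ (ψ b) = b := fun b => by
    have := congrArg (fun t => t.hom b) (Scheme.ΓSpecIso (CommRingCat.of A)).hom_inv_id
    exact this
  have hψφ : ∀ a : A, ψ (φ a) = a := fun a => by
    have := congrArg (fun t => t.hom a) (Scheme.ΓSpecIso (CommRingCat.of A)).inv_hom_id
    exact this
  let alg : Algebra B A := ψ.toAlgebra
  let modA : Module A Γ(N, ⊤) := Module.compHom Γ(N, ⊤) φ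
  have htower : IsScalarTower B A Γ(N, ⊤) := ⟨fun b a x => by
    change φ (ψ b * a) • x = b • (φ a • x)
    rw [map_mul, hφψ, mul_smul]⟩
  let eBA : B ≃ₗ[B] A :=
    { toFun := ψ
      map_add' := map_add ψ
      map_smul' := fun b c => map_mul ψ b c
      invFun := φ
      left_inv := hφψ
      right_inv := hψφ }
  have h1 : Module.FinitePresentation B A := Module.FinitePresentation.of_equiv eBA
  let e : Coh.HH (CohB1.ProjSpace r A) M 0 ≃ₗ[A] Γ(N, ⊤) :=
    { CurvesB.HZero.equivAdd M with
      map_smul' := fun t x => CurvesB.HZero.equivAdd_smul_over M t x }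
  have h2 : Module.FinitePresentation A Γ(N, ⊤) := Module.FinitePresentation.of_equiv e
  exact Module.FinitePresentation.trans B Γ(N, ⊤) A

theorem serreProp (r : ℕ) (A : Type u) [CommRing A] : SerreProp r A := by
  intro G hG
  obtain ⟨n₀, h⟩ := SerreVB2.serre r A hG
  refine ⟨n₀, fun n hn => ?_⟩
  obtain ⟨h1, h2, -, -⟩ := h n hn
  obtain ⟨e⟩ := SerreVB.nonempty_tw_iso_tensorBi r A n G
  exact ⟨fun q hq => Fga.HShift.subsingleton_of_iso e q (h1 q hq),
    finitePresentation_push r A _ (Module.FinitePresentation.of_equiv (SerreVB2.hiso A e 0))⟩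


end Groth.Agent.Krr.H488.Serre
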