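import Mathlib.Algebra.BigOperators.Intervals
import Mathlib.Algebra.BigOperators.Fin
import Mathlib.Algebra.Ring.Units
import Mathlib.Order.Filter.Germ.Basic
import Mathlib.Order.Filter.AtTopBot.Basic
import Mathlib.RingTheory.PowerSeries.WellKnown
import Mathlib.Algebra.Polynomial.Monic
import Mathlib.Tactic.ComputeDegree
import Mathlib.Tactic.Ring
import Mathlib.Tactic.Abel
import Mathlib.Tactic.LinearCombination

/-!
# Pure algebra for the projective bundle theorem

* `bijective_of`: abstract form of the freeness of `K(P(E))` over `K(X)`.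
* `rank_eq_one`: the numerical identity behind "the last term of the canonical resolution has rank one".
-/

set_option autoImplicit false

open Finset Filter

namespace Groth.Agent.Krr.H488.Alg

section Inj

variable {K : Type*} [CommRing K]

/-- The shifted sequence. -/
def S (r : ℕ) (s : ℕ → K) (t : ℕ) : K := if r ≤ t then s (t - r) else 0

theorem S_rec (r : ℕ) (s e : ℕ → K)
    (hs : ∀ n, s (n + 1) = ∑ i ∈ range (r + 1), if i ≤ n then (-1) ^ i * e i * s (n - i) else 0) (t : ℕ) :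
    S r s (t + r + 1) = ∑ i ∈ range (r + 1), (-1) ^ i * e i * S r s (t + r - i) := by
  have h1 : S r s (t + r + 1) = s (t + 1) := by
    rw [S, if_pos (by omega)]
    congr 1
    omega
  rw [h1, hs]
  refine sum_congr rfl fun i hi => ?_
  have hi' := mem_range.1 hi
  by_cases h : i ≤ t
  · rw [if_pos h, S, if_pos (by omega)]
    congr 2
    omega
  · rw [if_neg h, S, if_neg (by omega), mul_zero]

/-- Backwards induction along the recursion. -/
theorem eq_zero_of_rec (r : ℕ) (e : ℕ → K) (he : IsUnit (e r)) (v : ℕ → K)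
    (hv : ∀ k, v (k + r + 1) = ∑ i ∈ range (r + 1), (-1) ^ i * e i * v (k + r - i)) (N : ℕ)
    (hN : ∀ k, N ≤ k → v k = 0) : ∀ k, v k = 0 := by
  have key : ∀ d k, N ≤ k + d → v k = 0 := by
    intro d
    induction d with
    | zero => intro k hk; exact hN k (by omega)
    | succ d ih =>
      intro k hk
      have h1 := hv k
      rw [ih (k + r + 1) (by omega), sum_range_succ, sum_eq_zero, zero_add] at h1
      · have h2 : k + r - r = k := by omega
        rw [h2] at h1
        obtain ⟨u, hu⟩ := he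
        rw [← hu] at h1
        have h3 : IsUnit ((-1 : K) ^ r * (u : K)) := ((isUnit_one.neg).pow r).mul u.isUnit
        exact (h3.mul_right_eq_zero.1 h1.symm)
      · intro i hi
        have hi' := mem_range.1 hi
        rw [ih (k + r - i) (by omega), mul_zero]
  intro k
  exact key N k (by omega)

theorem coeff_eq_zero (r : ℕ) (s a : ℕ → K) (hs0 : s 0 = 1)
    (h : ∀ k, ∑ i ∈ range (r + 1), a i * S r s (k + i) = 0) : ∀ k, k ≤ r → a (r - k) = 0 := by
  intro k
  induction k using Nat.strong_induction_on with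
  | _ k ih =>
    intro hk
    have h1 := h k
    rw [sum_eq_single (r - k)] at h1
    · have h2 : k + (r - k) = r := by omega
      rw [h2, S, if_pos le_rfl, Nat.sub_self, hs0, mul_one] at h1
      exact h1
    · intro i hi hne
      have hi' := mem_range.1 hi
      rcases lt_or_gt_of_ne hne with h3 | h3
      · rw [S, if_neg (by omega), mul_zero]
      · have h4 := ih (r - i) (by omega) (by omega)
        have h5 : r - (r - i) = i := by omega
        rw [h5] at h4
        rw [h4, zero_mul]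
    · intro h3
      exact absurd (mem_range.2 (by omega)) h3

/-- Independence: if `∑ a_i s_{n+i} = 0` for all large `n` then `a = 0`. -/
theorem indep (r : ℕ) (s e a : ℕ → K) (hs0 : s 0 = 1)
    (hs : ∀ n, s (n + 1) = ∑ i ∈ range (r + 1), if i ≤ n then (-1) ^ i * e i * s (n - i) else 0)
    (he : IsUnit (e r)) (N : ℕ) (h : ∀ n, N ≤ n → ∑ i ∈ range (r + 1), a i * s (n + i) = 0) :
    ∀ i, i ≤ r → a i = 0 := by
  have h1 : ∀ k, ∑ i ∈ range (r + 1), a i * S r s (k + i) = 0 := by
    refine eq_zero_of_rec r e he (fun k => ∑ i ∈ range (r + 1), a i * S r s (k + i)) ?_ (N + r) ?_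
    · intro k
      simp only [mul_sum]
      rw [sum_comm]
      refine sum_congr rfl fun j hj => ?_
      have hj' := mem_range.1 hj
      have h2 := S_rec r s e hs (k + j)
      have h3 : k + j + r + 1 = k + r + 1 + j := by omega
      rw [h3] at h2
      rw [h2, mul_sum]
      refine sum_congr rfl fun i hi => ?_
      have hi' := mem_range.1 hi
      have h4 : k + j + r - i = k + r - i + j := by omega
      rw [h4]
      ring
    · intro k hk
      have := h (k - r) (by omega)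
      rw [← this]
      refine sum_congr rfl fun i _ => ?_
      rw [S, if_pos (by omega)]
      congr 2
      omega
  intro i hi
  have := coeff_eq_zero r s a hs0 h1 (r - i) (by omega)
  have h2 : r - (r - i) = i := by omega
  rwa [h2] at this

end Inj

section Main

variable {K K' : Type*} [CommRing K] [CommRing K'] (g : K →+* K') (ℓ : K'ˣ) (r : ℕ)

/-- The map of the projective bundle theorem. -/
def Ψ : (Fin (r + 1) → K) →+ K' where
  toFun a := ∑ i : Fin (r + 1), g (a i) * (ℓ : K') ^ (i : ℕ)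
  map_zero' := by simp
  map_add' a b := by
    rw [← sum_add_distrib]
    refine sum_congr rfl fun i _ => ?_
    rw [Pi.add_apply, map_add, add_mul]

theorem Ψ_apply (a : Fin (r + 1) → K) : Ψ g ℓ r a = ∑ i : Fin (r + 1), g (a i) * (ℓ : K') ^ (i : ℕ) := rfl

theorem mem_ran (i : ℕ) (hi : i ≤ r) (x : K) : g x * (ℓ : K') ^ i ∈ (Ψ g ℓ r).range := by
  classical
  refine ⟨Pi.single ⟨i, by omega⟩ x, ?_⟩
  rw [Ψ_apply, Finset.sum_eq_single (⟨i, by omega⟩ : Fin (r + 1))]
  · simp
  · intro j _ hj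
    rw [Pi.single_eq_of_ne hj, map_zero, zero_mul]
  · intro h
    exact absurd (Finset.mem_univ _) h

/-- The range is stable under multiplication by `K`. -/
theorem smul_mem (c : K) {y : K'} (hy : y ∈ (Ψ g ℓ r).range) : g c * y ∈ (Ψ g ℓ r).range := by
  obtain ⟨a, rfl⟩ := hy
  refine ⟨fun i => c * a i, ?_⟩
  rw [Ψ_apply, Ψ_apply, mul_sum]
  refine sum_congr rfl fun i _ => ?_
  rw [map_mul, mul_assoc]

theorem neg_one_pow_mul_mem (i : ℕ) {y : K'} (hy : y ∈ (Ψ g ℓ r).range) :
    (-1 : K') ^ i * y ∈ (Ψ g ℓ r).range := by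
  have := smul_mem g ℓ r ((-1) ^ i) hy
  rwa [map_pow, map_neg, map_one] at this

section Rel

variable (e : ℕ → K) (hrel : (ℓ : K') ^ (r + 1) = ∑ i ∈ range (r + 1), (-1) ^ i * g (e i) * (ℓ : K') ^ (r - i))

include hrel

theorem mul_mem {y : K'} (hy : y ∈ (Ψ g ℓ r).range) : (ℓ : K') * y ∈ (Ψ g ℓ r).range := by
  obtain ⟨a, rfl⟩ := hy
  rw [Ψ_apply, mul_sum]
  refine sum_mem fun i _ => ?_
  obtain ⟨i, hi⟩ := i
  have h1 : (ℓ : K') * (g (a ⟨i, hi⟩) * (ℓ : K') ^ i) = g (a ⟨i, hi⟩) * (ℓ : K') ^ (i + 1) := by ring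
  simp only [h1]
  rcases Nat.lt_or_ge i r with h | h
  · exact mem_ran g ℓ r (i + 1) h _
  · obtain rfl : i = r := by omega
    apply smul_mem
    rw [hrel]
    refine sum_mem fun j hj => ?_
    rw [mul_assoc]
    exact neg_one_pow_mul_mem g ℓ i j (mem_ran g ℓ i (i - j) (by omega) _)

theorem inv_mul_mem (he : IsUnit (e r)) {y : K'} (hy : y ∈ (Ψ g ℓ r).range) :
    ((ℓ⁻¹ : K'ˣ) : K') * y ∈ (Ψ g ℓ r).range := by
  obtain ⟨u, hu⟩ := he
  have hinv : ((ℓ⁻¹ : K'ˣ) : K') ∈ (Ψ g ℓ r).range := by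
    have h1 : ((ℓ⁻¹ : K'ˣ) : K') = (-1) ^ r * (g ((u⁻¹ : Kˣ) : K) * ((ℓ : K') ^ r -
        ∑ i ∈ range r, (-1) ^ i * (g (e i) * (ℓ : K') ^ (r - 1 - i)))) := by
      have h2 := hrel
      rw [sum_range_succ, Nat.sub_self, pow_zero, mul_one] at h2
      have h3 : (ℓ : K') * ((ℓ : K') ^ r - ∑ i ∈ range r, (-1) ^ i * (g (e i) * (ℓ : K') ^ (r - 1 - i))) =
          (-1) ^ r * g (e r) := by
        have h4 : (ℓ : K') * ∑ i ∈ range r, (-1) ^ i * (g (e i) * (ℓ : K') ^ (r - 1 - i)) =
            ∑ i ∈ range r, (-1) ^ i * g (e i) * (ℓ : K') ^ (r - i) := by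
          rw [mul_sum]
          refine sum_congr rfl fun i hi => ?_
          have hi' := mem_range.1 hi
          have h5 : r - i = (r - 1 - i) + 1 := by omega
          rw [h5, pow_succ]
          ring
        rw [mul_sub, h4, ← pow_succ', h2]
        ring
      have h6 : (ℓ : K') * ((-1) ^ r * (g ((u⁻¹ : Kˣ) : K) * ((ℓ : K') ^ r -
          ∑ i ∈ range r, (-1) ^ i * (g (e i) * (ℓ : K') ^ (r - 1 - i))))) = 1 := by
        have h7 : g ((u⁻¹ : Kˣ) : K) * g (e r) = 1 := by
          rw [← map_mul, ← hu, Units.inv_mul, map_one]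
        have h8 : ((-1 : K') ^ r) * ((-1) ^ r) = 1 := by
          rw [← mul_pow]; simp
        calc (ℓ : K') * ((-1) ^ r * (g ((u⁻¹ : Kˣ) : K) * ((ℓ : K') ^ r -
              ∑ i ∈ range r, (-1) ^ i * (g (e i) * (ℓ : K') ^ (r - 1 - i)))))
            = (-1) ^ r * (g ((u⁻¹ : Kˣ) : K) * ((ℓ : K') * ((ℓ : K') ^ r -
              ∑ i ∈ range r, (-1) ^ i * (g (e i) * (ℓ : K') ^ (r - 1 - i))))) := by ring
          _ = (((-1 : K') ^ r) * ((-1) ^ r)) * (g ((u⁻¹ : Kˣ) : K) * g (e r)) := by rw [h3]; ring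
          _ = 1 := by rw [h7, h8, mul_one]
      exact Units.inv_eq_of_mul_eq_one_right h6
    rw [h1]
    apply neg_one_pow_mul_mem
    apply smul_mem
    refine sub_mem ?_ (sum_mem fun i hi => ?_)
    · have := mem_ran g ℓ r r le_rfl (1 : K)
      rwa [map_one, one_mul] at this
    · exact neg_one_pow_mul_mem g ℓ r i (mem_ran g ℓ r _ (by omega) _)
  obtain ⟨a, rfl⟩ := hy
  rw [Ψ_apply, mul_sum]
  refine sum_mem fun i _ => ?_
  obtain ⟨i, hi⟩ := i
  rcases i with _ | i
  · have h1 : ((ℓ⁻¹ : K'ˣ) : K') * (g (a ⟨0, hi⟩) * (ℓ : K') ^ 0) = g (a ⟨0, hi⟩) * ((ℓ⁻¹ : K'ˣ) : K') := by ring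
    simp only [h1]
    exact smul_mem g ℓ r _ hinv
  · have h1 : ((ℓ⁻¹ : K'ˣ) : K') * (g (a ⟨i + 1, hi⟩) * (ℓ : K') ^ (i + 1)) = g (a ⟨i + 1, hi⟩) * (ℓ : K') ^ i := by
      rw [pow_succ]
      calc ((ℓ⁻¹ : K'ˣ) : K') * (g (a ⟨i + 1, hi⟩) * ((ℓ : K') ^ i * ℓ))
          = g (a ⟨i + 1, hi⟩) * (ℓ : K') ^ i * (((ℓ⁻¹ : K'ˣ) : K') * ℓ) := by ring
        _ = _ := by rw [Units.inv_mul, mul_one]
    simp only [h1]
    exact mem_ran g ℓ r i (by omega) _

theorem zpow_mul_mem (he : IsUnit (e r)) (d : ℤ) {y : K'} (hy : y ∈ (Ψ g ℓ r).range) :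
    ((ℓ ^ d : K'ˣ) : K') * y ∈ (Ψ g ℓ r).range := by
  induction d using Int.induction_on with
  | zero => simpa using hy
  | succ d ih =>
    rw [zpow_add_one, mul_comm (ℓ ^ (d : ℤ)) ℓ, Units.val_mul, mul_assoc]
    exact mul_mem g ℓ r e hrel ih
  | pred d ih =>
    rw [zpow_sub_one, mul_comm (ℓ ^ (-(d : ℤ))) ℓ⁻¹, Units.val_mul, mul_assoc]
    exact inv_mul_mem g ℓ r e hrel he ih

end Rel

/-- **Abstract projective bundle theorem.** -/
theorem bijective_of (e s : ℕ → K) (he : IsUnit (e r))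
    (hrel : (ℓ : K') ^ (r + 1) = ∑ i ∈ range (r + 1), (-1) ^ i * g (e i) * (ℓ : K') ^ (r - i))
    (hgen : ∀ M : AddSubgroup K', (∀ (d : ℤ) (x : K), ((ℓ ^ d : K'ˣ) : K') * g x ∈ M) → M = ⊤)
    (hs0 : s 0 = 1)
    (hs : ∀ n, s (n + 1) = ∑ i ∈ range (r + 1), if i ≤ n then (-1) ^ i * e i * s (n - i) else 0)
    (Φ : K' →+ Germ (atTop : Filter ℕ) K)
    (hΦ : ∀ (i : ℕ) (x : K), Φ (g x * (ℓ : K') ^ i) = ((fun n => x * s (n + i) : ℕ → K) :
      Germ (atTop : Filter ℕ) K)) :
    Function.Bijective (fun a : Fin (r + 1) → K => ∑ i : Fin (r + 1), g (a i) * (ℓ : K') ^ (i : ℕ)) := by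
  change Function.Bijective (Ψ g ℓ r)
  constructor
  · rw [injective_iff_map_eq_zero]
    intro a ha
    let b : ℕ → K := fun i => if h : i < r + 1 then a ⟨i, h⟩ else 0
    have h0 : ∑ i ∈ range (r + 1), g (b i) * (ℓ : K') ^ i = 0 := by
      rw [← ha, Ψ_apply, ← Fin.sum_univ_eq_sum_range (fun i => g (b i) * (ℓ : K') ^ i)]
      refine sum_congr rfl fun i _ => ?_
      simp only [b, dif_pos i.2]
    have h1 : Φ (∑ i ∈ range (r + 1), g (b i) * (ℓ : K') ^ i) = 0 := by rw [h0, map_zero]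
    rw [map_sum] at h1
    simp only [hΦ] at h1
    have h2 : ((fun n => ∑ i ∈ range (r + 1), b i * s (n + i) : ℕ → K) : Germ (atTop : Filter ℕ) K) = 0 := by
      rw [← h1]
      have : (fun n => ∑ i ∈ range (r + 1), b i * s (n + i)) =
          ∑ i ∈ range (r + 1), (fun n => b i * s (n + i) : ℕ → K) := by
        funext n
        simp
      rw [this]
      exact map_sum (Germ.coeAddHom (atTop : Filter ℕ)) _ _
    obtain ⟨N, hN⟩ := eventually_atTop.1 (Germ.coe_eq.1 (h2.trans Germ.coe_zero.symm))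
    have h3 := indep r s e b hs0 hs he N (fun n hn => by simpa using hN n hn)
    funext i
    have := h3 i (by omega)
    simp only [b, dif_pos i.2] at this
    exact this
  · rw [← AddMonoidHom.range_eq_top]
    refine hgen _ fun d x => ?_
    apply zpow_mul_mem g ℓ r e hrel he
    have := mem_ran g ℓ r 0 (Nat.zero_le _) x
    rwa [pow_zero, mul_one] at this

end Main

section Rank

open PowerSeries

/-- The numerical identity: the last coefficient is `1`. -/
theorem rank_eq_one (r : ℕ) (ε : ℕ → ℤ)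
    (h : ∀ n, (((n + 1 + r).choose r : ℕ) : ℤ) = ∑ i ∈ range (r + 1),
      if i ≤ n then (-1) ^ i * ε i * (((n - i + r).choose r : ℕ) : ℤ) else 0) : ε r = 1 := by
  let A : PowerSeries ℤ := PowerSeries.mk fun n => ((r + n).choose r : ℤ)
  let E : PowerSeries ℤ := ∑ i ∈ range (r + 1), PowerSeries.C ((-1) ^ i * ε i) * PowerSeries.X ^ (i + 1)
  have hA : A * (1 - PowerSeries.X) ^ (r + 1) = 1 := PowerSeries.mk_add_choose_mul_one_sub_pow_eq_one ℤ r
  have hAE : A = 1 + E * A := by
    ext n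
    rw [map_add, PowerSeries.coeff_mk, PowerSeries.coeff_one, sum_mul, map_sum]
    rcases n with _ | n
    · rw [if_pos rfl, sum_eq_zero]
      · simp
      · intro i _
        rw [mul_assoc, PowerSeries.coeff_C_mul, mul_comm (PowerSeries.X ^ (i + 1)) A, PowerSeries.coeff_mul_X_pow',
          if_neg (by omega), mul_zero]
    · rw [if_neg (by omega), zero_add]
      have e1 : r + (n + 1) = n + 1 + r := by omega
      rw [e1, h n]
      refine sum_congr rfl fun i _ => ?_
      rw [mul_assoc (PowerSeries.C _), PowerSeries.coeff_C_mul, mul_comm (PowerSeries.X ^ (i + 1)) A,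
        PowerSeries.coeff_mul_X_pow']
      by_cases hi : i ≤ n
      · rw [if_pos hi, if_pos (by omega), PowerSeries.coeff_mk]
        have e2 : r + (n + 1 - (i + 1)) = n - i + r := by omega
        rw [e2]
      · rw [if_neg hi, if_neg (by omega), mul_zero]
  have h1 : (1 - E) * A = 1 := by
    rw [sub_mul, one_mul]
    nth_rewrite 1 [hAE]
    ring
  have h2 : 1 - E = (1 - PowerSeries.X) ^ (r + 1) := by
    calc 1 - E = (1 - E) * (A * (1 - PowerSeries.X) ^ (r + 1)) := by rw [hA, mul_one]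
      _ = ((1 - E) * A) * (1 - PowerSeries.X) ^ (r + 1) := by ring
      _ = _ := by rw [h1, one_mul]
  have h3 := congrArg (PowerSeries.coeff (r + 1)) h2
  have h4 : PowerSeries.coeff (r + 1) ((1 - PowerSeries.X : PowerSeries ℤ) ^ (r + 1)) = (-1) ^ (r + 1) := by
    have e3 : (1 - PowerSeries.X : PowerSeries ℤ) ^ (r + 1) =
        ((1 - Polynomial.X : Polynomial ℤ) ^ (r + 1) : Polynomial ℤ) := by
      push_cast
      simp
    rw [e3, Polynomial.coeff_coe]
    have e4 : (1 - Polynomial.X : Polynomial ℤ) = -(Polynomial.X - Polynomial.C 1) := by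
      rw [Polynomial.C_1]; ring
    rw [e4, neg_pow, ← Polynomial.C_1, ← Polynomial.C_neg, ← Polynomial.C_pow, Polynomial.coeff_C_mul]
    have e5 : ((Polynomial.X - Polynomial.C (1 : ℤ)) ^ (r + 1)).coeff (r + 1) = 1 := by
      have m1 : ((Polynomial.X - Polynomial.C (1 : ℤ)) ^ (r + 1)).Monic := by monicity!
      have m2 : ((Polynomial.X - Polynomial.C (1 : ℤ)) ^ (r + 1)).natDegree = r + 1 := by
        rw [Polynomial.natDegree_pow, Polynomial.natDegree_X_sub_C, mul_one]
      have m3 := m1.coeff_natDegree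
      rwa [m2] at m3
    rw [e5, mul_one]
  rw [h4, map_sub, PowerSeries.coeff_one, if_neg (by omega), zero_sub, map_sum, sum_range_succ, sum_eq_zero,
    zero_add, PowerSeries.coeff_C_mul, PowerSeries.coeff_X_pow, if_pos rfl, mul_one] at h3
  · have h5 : (-1 : ℤ) ^ (r + 1) * (-((-1) ^ r * ε r)) = (-1 : ℤ) ^ (r + 1) * (-1) ^ (r + 1) := by rw [h3]
    have h6 : (-1 : ℤ) ^ (r + 1) * (-1) ^ (r + 1) = 1 := by rw [← mul_pow]; simp
    have h7 : (-1 : ℤ) ^ r * (-1) ^ r = 1 := by rw [← mul_pow]; simp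
    rw [h6, pow_succ] at h5
    calc ε r = ((-1 : ℤ) ^ r * (-1) ^ r) * ε r := by rw [h7, one_mul]
      _ = (-1) ^ r * (-1) * -((-1) ^ r * ε r) := by ring
      _ = 1 := h5
  · intro i hi
    have hi' := mem_range.1 hi
    rw [PowerSeries.coeff_C_mul, PowerSeries.coeff_X_pow, if_neg (by omega), mul_zero]

end Rank

end Groth.Agent.Krr.H488.Alg
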