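import Groth.Agent.Krr.H488.Chart

/-!
# Atlases of projective bundles

`Atlas r π O1 A h`: a jointly surjective family of open immersions `h i : Spec (A i) ⟶ X` with charts
`j i : P^r_{A i} ⟶ P` (cartesian squares over `h i`) on which `O1` restricts to `O(1)`.

* `bijective_app`, `isIso_unit`: `O_X ≅ π_* O_P`, `E ≅ π_* π^* E` for `E` finite locally free.
* `rank_push_pw`: `π_* O1^{⊗ n}` is locally free of rank `C(n + r, r)` for `n ≥ 0`.
* `nonempty_push_tw_pull`: `π_*(O1^{⊗ n} ⊗ π^* E) ≅ E ⊗ π_* O1^{⊗ n}`.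
-/

set_option autoImplicit false

universe u

open CategoryTheory CategoryTheory.Limits AlgebraicGeometry

namespace Groth.Agent.Krr.H488.Atlas

open Groth.Agent.Krr.H488.PicZ Groth.Agent.Krr.H488.Chart
open Scheme.Modules

/-- Charts of a projective bundle. -/
structure Atlas (r : ℕ) {X P : Scheme.{u}} (π : P ⟶ X) (O1 : P.Modules) {ι : Type} (A : ι → Type u)
    [∀ i, CommRing (A i)] (h : ∀ i, Spec (CommRingCat.of (A i)) ⟶ X) where
  /-- the charts -/
  j : ∀ i, CohB1.ProjSpace r (A i) ⟶ P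
  isPullback : ∀ i, IsPullback (j i) (CohB1.ProjSpace.toSpec r (A i)) π (h i)
  surj : ∀ s : X, ∃ i, s ∈ Set.range (h i)
  iso1 : ∀ i, Nonempty ((Scheme.Modules.pullback (j i)).obj O1 ≅ Twist.twistProjSpace r (A i) 1)

variable {r : ℕ} {X P : Scheme.{u}} {π : P ⟶ X} {O1 : P.Modules} {ι : Type} {A : ι → Type u}
  [∀ i, CommRing (A i)] {h : ∀ i, Spec (CommRingCat.of (A i)) ⟶ X} [∀ i, IsOpenImmersion (h i)]
  (𝔸 : Atlas r π O1 A h)

instance isOpenImmersion_j (i : ι) : IsOpenImmersion (𝔸.j i) :=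
  Sga67.PushLocal.isOpenImmersion_of_isPullback (𝔸.isPullback i)

section FreeCase

/-- The structure morphism of `P^r_A` is bijective on sections over affine opens. -/
theorem toSpec_app_bijective (r : ℕ) (A : Type u) [CommRing A]
    (W : (Spec (CommRingCat.of A)).Opens) (hW : IsAffineOpen W) :
    Function.Bijective ((CohB1.ProjSpace.toSpec r A).app W) := by
  have h1 := Sga67.PushTwist.toBase_app_bijective r (Spec (CommRingCat.of A)) W hW
  have h2 := Ega3A.PChart.isPullback_chart r (𝟙 (Spec (CommRingCat.of A)))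
  have h3 : IsIso (Ega3A.PChart.chart r (𝟙 (Spec (CommRingCat.of A)))) :=
    (MorphismProperty.isomorphisms Scheme).of_isPullback h2.flip (by infer_instance)
  have h4 : CohB1.ProjSpace.toSpec r A = Ega3A.PChart.chart r (𝟙 (Spec (CommRingCat.of A))) ≫
      CohB1.ProjSpaceOver.toBase r (Spec (CommRingCat.of A)) := by
    rw [h2.w, Category.comp_id]
  rw [h4, Scheme.Hom.comp_app]
  have h5 : IsIso ((CohB1.ProjSpaceOver.toBase r (Spec (CommRingCat.of A))).app W) :=
    (ConcreteCategory.isIso_iff_bijective _).2 h1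
  have h6 : IsIso ((Ega3A.PChart.chart r (𝟙 (Spec (CommRingCat.of A)))).app
      (CohB1.ProjSpaceOver.toBase r (Spec (CommRingCat.of A)) ⁻¹ᵁ W)) := inferInstance
  exact (ConcreteCategory.isIso_iff_bijective _).1 (@IsIso.comp_isIso _ _ _ _ _ _ _ h5 h6)

/-- `f_* O(n)` is free of rank `C(n + r, r)` for `f : P^r_A ⟶ Spec A`. -/
theorem nonempty_push_twist (r : ℕ) (A : Type u) [CommRing A] (n : ℕ) :
    Nonempty ((pushforward (CohB1.ProjSpace.toSpec r A)).obj (Twist.twistProjSpace r A (n : ℤ)) ≅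
      FlatMod.freeMod (Spec (CommRingCat.of A)) ((n + r).choose r)) := by
  have h2 := Ega3A.PChart.isPullback_chart r (𝟙 (Spec (CommRingCat.of A)))
  let e := Dcoh.PushRestrict.pushRestrictIsoOfIsPullback _ _ _ _ h2
  exact ⟨(pushforward (CohB1.ProjSpace.toSpec r A)).mapIso
      (Ega3A.PChart.restrictTwistIso r (𝟙 (Spec (CommRingCat.of A))) (n : ℤ)).symm ≪≫
    (e.app _).symm ≪≫
    (restrictFunctor (𝟙 (Spec (CommRingCat.of A)))).mapIso
      (Sga67.PushTwist.pushTwistIso r (Spec (CommRingCat.of A)) n).symm ≪≫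
    Ega3B.LocFree.restrictFreeIso (𝟙 (Spec (CommRingCat.of A))) _⟩

end FreeCase

include 𝔸

/-- The comorphism of `π` is bijective over small affine opens. -/
theorem exists_bijective_app (x : X) (U : X.Opens) (hx : x ∈ U) :
    ∃ V : X.Opens, V ≤ U ∧ x ∈ V ∧ Function.Bijective (π.app V) := by
  obtain ⟨i, y, hy⟩ := 𝔸.surj x
  obtain ⟨_, ⟨V, hV, rfl⟩, hyV, hVU⟩ :=
    (Spec (CommRingCat.of (A i))).isBasis_affineOpens.exists_subset_of_mem_open
      (show y ∈ ((h i ⁻¹ᵁ U : (Spec (CommRingCat.of (A i))).Opens) : Set _) from by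
        change (h i) y ∈ U
        rw [hy]; exact hx) (h i ⁻¹ᵁ U).isOpen
  refine ⟨h i ''ᵁ V, ?_, ⟨y, hyV, hy⟩, ?_⟩
  · rintro _ ⟨z, hz, rfl⟩
    exact hVU hz
  · refine app_bijective_of_isPullback (𝔸.isPullback i) _ ?_ ?_
    · rintro _ ⟨z, -, rfl⟩
      exact ⟨z, rfl⟩
    · rw [Scheme.Hom.preimage_image_eq]
      exact toSpec_app_bijective r (A i) V hV

/-- `E ≅ π_* π^* E` for `E` finite locally free. -/
theorem isIso_unit {E : X.Modules} (hE : FlatMod.IsFinLocFree E) :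
    IsIso ((pullbackPushforwardAdjunction π).unit.app E) :=
  Chart.isIso_unit π (exists_bijective_app 𝔸) (VarietyB.TensCoh.HasBases.of_isFinLocFree hE)

variable (hO : PicF.IsInvertible O1)

/-- `π_* O1^{⊗ n}` is locally free of rank `C(n + r, r)`. -/
theorem rank_push_pw (n : ℕ) :
    FlatMod.IsFinLocFreeOfRank ((n + r).choose r) ((pushforward π).obj (pw hO (n : ℤ))) := by
  intro x
  obtain ⟨i, hi⟩ := 𝔸.surj x
  obtain ⟨e⟩ := nonempty_pw_restrict hO (𝔸.iso1 i) (n : ℤ)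
  obtain ⟨e'⟩ := nonempty_push_twist r (A i) n
  exact ⟨(h i).opensRange, hi, Dcoh.FinLocFree.exists_iso_of_isOpenImmersion (h i)
    ((Dcoh.PushRestrict.pushRestrictIsoOfIsPullback π _ (𝔸.j i) (h i) (𝔸.isPullback i)).app _ ≪≫
      (pushforward (CohB1.ProjSpace.toSpec r (A i))).mapIso e ≪≫ e') le_rfl⟩

theorem isFinLocFree_push_pw (n : ℕ) :
    FlatMod.IsFinLocFree ((pushforward π).obj (pw hO (n : ℤ))) := fun x => by
  obtain ⟨U, hx, e⟩ := rank_push_pw 𝔸 hO n x
  exact ⟨U, _, hx, e⟩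

omit 𝔸 [∀ i, IsOpenImmersion (h i)] in
/-- `π_*(O1^{⊗ n} ⊗ π^* E) ≅ E ⊗ π_* O1^{⊗ n}`. -/
theorem nonempty_push_tw_pull (n : ℤ) {E : X.Modules} (hE : FlatMod.IsFinLocFree E) :
    Nonempty (CohB1.tensorMod E ((pushforward π).obj (pw hO n)) ≅
      (pushforward π).obj ((tw hO n).obj ((Scheme.Modules.pullback π).obj E))) :=
  ⟨VarietyB.ProjForm.projIso π (VarietyB.TensCoh.HasBases.of_isFinLocFree hE) (pw hO n) ≪≫
    (pushforward π).mapIso (Ega2.Tens.swap _ _)⟩

/-- `π_*(O1^{⊗ n} ⊗ π^* E)` is finite locally free. -/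
theorem isFinLocFree_push_tw_pull (n : ℕ) {E : X.Modules} (hE : FlatMod.IsFinLocFree E) :
    FlatMod.IsFinLocFree ((pushforward π).obj
      ((tw hO (n : ℤ)).obj ((Scheme.Modules.pullback π).obj E))) := by
  obtain ⟨e⟩ := nonempty_push_tw_pull (π := π) hO (n : ℤ) hE
  exact Sga67.LocBasis.isFinLocFree_of_iso e
    (Sga67.LocBasis.isFinLocFree_tensorMod hE (isFinLocFree_push_pw 𝔸 hO n))

end Groth.Agent.Krr.H488.Atlas
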