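import Groth.Agent.Krr.H488.PicZ
import Groth.Agent.Ega3A.PChart
import Groth.Agent.Sga67.RegResol
import Groth.Agent.Sga67.PushLocal
import Groth.Agent.Sga67.PushFlat
import Groth.Agent.Sga67.PushTwist
import Groth.Agent.CohqB.TwistMono
import Groth.Agent.Ega1.QCohSpec

/-!
# Charts `P^r_A ⟶ P` of a morphism `π : P ⟶ X` with an invertible module `O1`

A chart is a cartesian square `j : P^r_A ⟶ P`, `h : Spec A ⟶ X` (open immersion) with `j^* O1 ≅ O(1)`.
-/

set_option autoImplicit false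

universe u

open CategoryTheory CategoryTheory.Limits AlgebraicGeometry

namespace Groth.Agent.Krr.H488.Chart

open Groth.Agent.Sga67.CMReg Groth.Agent.Sga67.TwistProj Groth.Agent.Sga67.RegResol
  Groth.Agent.Krr.H488.PicZ Groth.Agent.Sga67 Groth.Agent.Fga.HShift
open Scheme.Modules

variable {r : ℕ} {X P : Scheme.{u}} {π : P ⟶ X} {A : Type u} [CommRing A]
  {h : Spec (CommRingCat.of A) ⟶ X} {j : CohB1.ProjSpace r A ⟶ P}

section Twist

variable {O1 : P.Modules} (hO : PicF.IsInvertible O1) [IsOpenImmersion j]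
  (e1 : Nonempty ((Scheme.Modules.pullback j).obj O1 ≅ Twist.twistProjSpace r A 1))

include e1

/-- The powers of `O1` restrict to `O(d)`. -/
theorem nonempty_pw_restrict (d : ℤ) :
    Nonempty ((pw hO d).restrict j ≅ Twist.twistProjSpace r A d) := by
  obtain ⟨a⟩ := nonempty_pullback_pw hO j (Ega3B.ProjFrame.isInvertible_twistProjSpace r A 1) e1 d
  obtain ⟨b⟩ := nonempty_pw_twist r A d
  exact ⟨(restrictFunctorIsoPullback j).app _ ≪≫ a ≪≫ b⟩

/-- Restriction of twists. -/
theorem nonempty_tw_restrict (d : ℤ) (M : P.Modules) :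
    Nonempty (((tw hO d).obj M).restrict j ≅ (tA r A d).obj (M.restrict j)) := by
  obtain ⟨a⟩ := nonempty_pw_restrict hO e1 d
  exact ⟨(PerfC.TensRestr.resIso j (pw hO d) M).symm ≪≫
    ((DCoh.tensorBi (X := CohB1.ProjSpace r A)).mapIso a).app _⟩

theorem hh_tw_iff (F : P.Modules) (d : ℤ) (q : ℕ) :
    Subsingleton (Coh.HH (CohB1.ProjSpace r A) (((tw hO d).obj F).restrict j) q) ↔
    Subsingleton (Coh.HH (CohB1.ProjSpace r A) ((tA r A d).obj (F.restrict j)) q) := by
  obtain ⟨e⟩ := nonempty_tw_restrict hO e1 d F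
  exact ⟨fun H => subsingleton_of_iso e q H, fun H => subsingleton_of_iso e.symm q H⟩

end Twist

section Pull

variable [IsOpenImmersion h] [IsOpenImmersion j] (hp : IsPullback j (CohB1.ProjSpace.toSpec r A) π h)

include hp

/-- The restriction of `π^* E` to a chart is a pullback from `Spec A`. -/
noncomputable def midIso (E : X.Modules) :
    ((Scheme.Modules.pullback π).obj E).restrict j ≅
      (Scheme.Modules.pullback (CohB1.ProjSpace.toSpec r A)).obj ((Scheme.Modules.pullback h).obj E) :=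
  (restrictFunctorIsoPullback j).app _ ≪≫
    (pullbackComp j π).app E ≪≫
    (pullbackCongr hp.w).app E ≪≫
    ((pullbackComp (CohB1.ProjSpace.toSpec r A) h).app E).symm

/-- `j ''ᵁ (f' ⁻¹ᵁ W) = π ⁻¹ᵁ (h ''ᵁ W)`. -/
theorem image_top : j ''ᵁ ⊤ = π ⁻¹ᵁ (h ''ᵁ ⊤) := by
  apply SetLike.coe_injective
  ext x
  constructor
  · rintro ⟨y, -, rfl⟩
    refine ⟨CohB1.ProjSpace.toSpec r A y, trivial, ?_⟩
    have := congrArg (fun g => g.base y) hp.w
    exact this.symm
  · rintro ⟨z, -, hz⟩
    obtain ⟨y, hy1, hy2⟩ := Scheme.exists_preimage_of_isPullback hp x z hz.symm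
    exact ⟨y, trivial, hy1⟩

/-- If `π_* φ` is an isomorphism then `φ` is bijective on the sections over the charts. -/
theorem bijective_chart {M N : P.Modules} (φ : M ⟶ N) [IsIso ((pushforward π).map φ)] :
    Function.Bijective (((restrictFunctor j).map φ).app ⊤) := by
  have h1 : Function.Bijective (((pushforward π).map φ).app (h ''ᵁ ⊤)) := by
    have : IsIso (((pushforward π).map φ).app (h ''ᵁ ⊤)) := inferInstance
    exact (ConcreteCategory.isIso_iff_bijective _).1 this
  have h2 : Function.Bijective (φ.app (π ⁻¹ᵁ (h ''ᵁ ⊤))) := h1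
  rw [← image_top hp] at h2
  exact h2

end Pull

section Unit

/-- The comorphism is bijective on an open contained in a chart if it is so on the chart. -/
theorem app_bijective_of_isPullback {S T U V : Scheme.{u}} {f : S ⟶ T} {f' : U ⟶ V} {j : U ⟶ S} {h : V ⟶ T}
    [IsOpenImmersion h] [IsOpenImmersion j] (hp : IsPullback j f' f h) (W : T.Opens) (hW : W ≤ h.opensRange)
    (hf' : Function.Bijective (f'.app (h ⁻¹ᵁ W))) : Function.Bijective (f.app W) := by
  have h1 : f.app W ≫ j.app (f ⁻¹ᵁ W) = h.app W ≫ f'.app (h ⁻¹ᵁ W) ≫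
      U.presheaf.map (eqToHom (by rw [← Scheme.Hom.comp_preimage, ← Scheme.Hom.comp_preimage, hp.w])).op := by
    have := Scheme.Hom.congr_app hp.w W
    rw [Scheme.Hom.comp_app, Scheme.Hom.comp_app] at this
    exact this.trans (Category.assoc _ _ _)
  have hIh : IsIso (h.app W) := by
    exact Scheme.Hom.isIso_app h W hW
  have hle : f ⁻¹ᵁ W ≤ j.opensRange := by
    intro x hx
    obtain ⟨z, hz⟩ := hW hx
    obtain ⟨y, hy1, hy2⟩ := Scheme.exists_preimage_of_isPullback hp x z hz.symm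
    exact ⟨y, hy1⟩
  have hIj : IsIso (j.app (f ⁻¹ᵁ W)) := Scheme.Hom.isIso_app j _ hle
  have hIf : IsIso (f'.app (h ⁻¹ᵁ W)) := (ConcreteCategory.isIso_iff_bijective _).2 hf'
  have h2 : IsIso (f.app W ≫ j.app (f ⁻¹ᵁ W)) := by
    rw [h1]
    infer_instance
  have h3 : IsIso (f.app W) := IsIso.of_isIso_comp_right _ (j.app (f ⁻¹ᵁ W))
  exact (ConcreteCategory.isIso_iff_bijective _).1 h3

open Groth.Agent.Fdesc.LocGen (pullSec res ores pullSec_smul res_pullSec) in
open Groth.Agent.VarietyB.TensCoh (HasBases) in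
open Groth.Agent.VarietyB.PullLoc (isBasis_pullSec) in
/-- `E ≅ f_* f^* E` for `E` with local bases, if `f` is bijective on functions over small opens. -/
theorem isIso_unit {X Y : Scheme.{u}} (f : X ⟶ Y)
    (hf : ∀ (x : Y) (U : Y.Opens), x ∈ U → ∃ V : Y.Opens, V ≤ U ∧ x ∈ V ∧ Function.Bijective (f.app V))
    {E : Y.Modules} (hE : HasBases E) :
    IsIso ((Scheme.Modules.pullbackPushforwardAdjunction f).unit.app E) := by
  refine Sga67.LocBasis.isIso_of_bijective _ fun x U hx => ?_
  obtain ⟨n, U', hx', e, he⟩ := hE x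
  obtain ⟨V, hVU, hxV, hfV⟩ := hf x (U ⊓ U') ⟨hx, hx'⟩
  have hVU' : V ≤ U' := fun y hy => (hVU hy).2
  refine ⟨V, fun y hy => (hVU hy).1, hxV, ?_⟩
  have h1 := he V hVU'
  have h2 := isBasis_pullSec f he (f ⁻¹ᵁ V) (f.preimage_mono hVU')
  have h3 : Function.Bijective (fun (a : Fin n → Γ(Y, V)) (i : Fin n) => f.app V (a i)) :=
    Function.Bijective.piMap fun _ => hfV
  have h4 : (fun m : Γ(E, V) => pullSec f m) ∘
      (fun a : Fin n → Γ(Y, V) => ∑ i, a i • Groth.Agent.VarietyB.TensLoc.res E hVU' (e i)) =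
      (fun a : Fin n → Γ(X, f ⁻¹ᵁ V) => ∑ i, a i •
        Groth.Agent.VarietyB.TensLoc.res ((Scheme.Modules.pullback f).obj E) (f.preimage_mono hVU')
          (pullSec f (e i))) ∘
      (fun (a : Fin n → Γ(Y, V)) (i : Fin n) => f.app V (a i)) := by
    funext a
    refine (map_sum (((Scheme.Modules.pullbackPushforwardAdjunction f).unit.app E).app V).hom _ _).trans ?_
    refine Finset.sum_congr rfl fun i _ => ?_
    refine (pullSec_smul f (a i) _).trans ?_
    congr 1
    exact (res_pullSec f hVU' (e i)).symm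
  have h5 := h2.comp h3
  rw [← h4] at h5
  exact (Function.Bijective.of_comp_iff _ h1).mp h5

end Unit

end Groth.Agent.Krr.H488.Chart
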