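import Groth.Agent.Krr.H488.RegB
import Groth.Agent.Krr.H488.Alg
import Groth.Agent.Krr.H482.PullLambda
import Groth.Agent.Krr.H495.Rank
import Groth.Agent.Ega2.QCohLocal

/-!
# `K(P)` for a projective bundle with an atlas

In models `KX`, `KP` of `K(X)`, `K(P)`: the class `ell` of `O1` as a unit, the canonical resolution of a regular
bundle, the recursion for `s n = [π_* O1^{⊗ n}]`, the germ of the Hilbert function, generation, and the bijectivity of
`(a_i) ↦ Σ π^K(a_i) ℓ^i`.
-/

set_option autoImplicit false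

universe u v w

open CategoryTheory CategoryTheory.Limits AlgebraicGeometry Finset

namespace Groth.Agent.Krr.H488.KThy

open Groth.Agent.Krr.H488.PicZ Groth.Agent.Krr.H488.Chart Groth.Agent.Krr.H488.Atlas
  Groth.Agent.Krr.H488.RegB
open Groth.Agent.Krr.H482.PullLambda
open Scheme.Modules KRR

variable {r : ℕ} {X P : Scheme.{u}} {π : P ⟶ X} {O1 : P.Modules}

section Basic

theorem isFinLocFree_pw (hO : PicF.IsInvertible O1) (d : ℤ) : FlatMod.IsFinLocFree (pw hO d) :=
  Dcoh.FinLocFree.isFinLocFree_of_iso (Ega2.Tens.runit _)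
    (Sga67.TwistOver.isFinLocFree_tensorMod_of_isInvertible (isInvertible_pw hO d)
      Sga67.TensorOps.isFinLocFree_structureModule)

variable {KP : Type w} [CommRing KP] [LambdaRing.LambdaOps KP] {PP : LambdaRing.PosStructure KP}
  {φP : SGA6.Kvb P →+ KP} (hKP : IsModel P KP PP φP)

include hKP

theorem cl_tensor {E F : P.Modules} (hE : FlatMod.IsFinLocFree E) (hF : FlatMod.IsFinLocFree F) :
    φP (cl P (((DCoh.tensorBi (X := P)).obj E).obj F)) = φP (cl P E) * φP (cl P F) :=
  (hKP.map_mul E F hE hF).symm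

theorem cl_tw (hO : PicF.IsInvertible O1) (d : ℤ) {F : P.Modules} (hF : FlatMod.IsFinLocFree F) :
    φP (cl P ((tw hO d).obj F)) = φP (cl P (pw hO d)) * φP (cl P F) :=
  cl_tensor hKP (isFinLocFree_pw hO d) hF

theorem cl_pw_zero (hO : PicF.IsInvertible O1) : φP (cl P (pw hO 0)) = 1 := by
  obtain ⟨e⟩ := nonempty_pw_zero hO
  rw [cl_iso e (isFinLocFree_pw hO 0), hKP.map_one]

theorem cl_pw_add (hO : PicF.IsInvertible O1) (a b : ℤ) :
    φP (cl P (pw hO (a + b))) = φP (cl P (pw hO a)) * φP (cl P (pw hO b)) := by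
  obtain ⟨e⟩ := nonempty_pw_mul hO a b
  have h1 := cl_iso e (Sga67.LocBasis.isFinLocFree_tensorMod (isFinLocFree_pw hO a) (isFinLocFree_pw hO b))
  rw [← h1]
  exact cl_tensor hKP (isFinLocFree_pw hO a) (isFinLocFree_pw hO b)

/-- The class of `O1^{⊗ d}` as a unit. -/
noncomputable def unitPw (hO : PicF.IsInvertible O1) (d : ℤ) : KPˣ where
  val := φP (cl P (pw hO d))
  inv := φP (cl P (pw hO (-d)))
  val_inv := by rw [← cl_pw_add hKP, add_neg_cancel, cl_pw_zero hKP]
  inv_val := by rw [← cl_pw_add hKP, neg_add_cancel, cl_pw_zero hKP]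

/-- `ℓ = [O1]` as a unit. -/
noncomputable def ell (hO : PicF.IsInvertible O1) : KPˣ := unitPw hKP hO 1

theorem ell_val (hO : PicF.IsInvertible O1) : (ell hKP hO : KP) = φP (cl P O1) := by
  obtain ⟨e⟩ := nonempty_pw_one hO
  change φP (cl P (pw hO 1)) = _
  rw [cl_iso e (isFinLocFree_pw hO 1)]

theorem unitPw_eq (hO : PicF.IsInvertible O1) (d : ℤ) : unitPw hKP hO d = ell hKP hO ^ d := by
  let f : Multiplicative ℤ →* KPˣ :=
    { toFun := fun d => unitPw hKP hO d.toAdd
      map_one' := Units.ext (cl_pw_zero hKP hO)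
      map_mul' := fun a b => Units.ext (cl_pw_add hKP hO _ _) }
  have := map_zpow f (Multiplicative.ofAdd 1) d
  rw [← ofAdd_zsmul, smul_eq_mul, mul_one] at this
  exact this

theorem cl_pw (hO : PicF.IsInvertible O1) (d : ℤ) : φP (cl P (pw hO d)) = ((ell hKP hO ^ d : KPˣ) : KP) := by
  rw [← unitPw_eq]
  rfl

theorem cl_tw' (hO : PicF.IsInvertible O1) (d : ℤ) {F : P.Modules} (hF : FlatMod.IsFinLocFree F) :
    φP (cl P ((tw hO d).obj F)) = ((ell hKP hO ^ d : KPˣ) : KP) * φP (cl P F) := by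
  rw [cl_tw hKP hO d hF, cl_pw hKP]

end Basic

section Main

variable {ι : Type} {A : ι → Type u} [∀ i, CommRing (A i)] {h : ∀ i, Spec (CommRingCat.of (A i)) ⟶ X}
  [∀ i, IsOpenImmersion (h i)] {𝔸 : Atlas r π O1 A h} {hO : PicF.IsInvertible O1}

variable {KX : Type v} [CommRing KX] [LambdaRing.LambdaOps KX] {PX : LambdaRing.PosStructure KX}
  {φX : SGA6.Kvb X →+ KX} (hKX : IsModel X KX PX φX)
  {KP : Type w} [CommRing KP] [LambdaRing.LambdaOps KP] {PP : LambdaRing.PosStructure KP}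
  {φP : SGA6.Kvb P →+ KP} (hKP : IsModel P KP PP φP)
  {g : KX →+ KP} (hg : IsPull π φX φP g)

/-- The classes of the canonical resolution. -/
noncomputable def eC (φX : SGA6.Kvb X →+ KX) (π : P ⟶ X) (hO : PicF.IsInvertible O1) (F : P.Modules) (i : ℕ) : KX :=
  φX (cl X ((pushforward π).obj (L π hO F i)))

/-- The classes of `π_* O1^{⊗ n}`. -/
noncomputable def sC (φX : SGA6.Kvb X →+ KX) (π : P ⟶ X) (hO : PicF.IsInvertible O1) (n : ℕ) : KX :=
  φX (cl X ((pushforward π).obj (pw hO (n : ℤ))))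

/-- The classes of `π_* L_i(n)`. -/
noncomputable def uC (φX : SGA6.Kvb X →+ KX) (π : P ⟶ X) (hO : PicF.IsInvertible O1) (F : P.Modules) (i n : ℕ) : KX :=
  φX (cl X ((pushforward π).obj ((tw hO (n : ℤ)).obj (L π hO F i))))

include hKX in
/-- The class of `π_*(O1^{⊗ n} ⊗ π^* E)`. -/
theorem cl_push_tw_pull (𝔸 : Atlas r π O1 A h) (hO : PicF.IsInvertible O1) (n : ℕ) {E : X.Modules}
    (hE : FlatMod.IsFinLocFree E) :
    φX (cl X ((pushforward π).obj ((tw hO (n : ℤ)).obj ((Scheme.Modules.pullback π).obj E)))) =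
      φX (cl X E) * sC φX π hO n := by
  obtain ⟨e⟩ := nonempty_push_tw_pull (π := π) hO (n : ℤ) hE
  have h1 := cl_iso e (Sga67.LocBasis.isFinLocFree_tensorMod hE (isFinLocFree_push_pw 𝔸 hO n))
  have h2 := cl_tensor hKX hE (isFinLocFree_push_pw 𝔸 hO n)
  exact (congrArg φX h1).symm.trans h2

theorem nonempty_unit_iso (𝔸 : Atlas r π O1 A h) (hO : PicF.IsInvertible O1) :
    Nonempty (Coh.structureModule X ≅ (pushforward π).obj
      ((tw hO ((0 : ℕ) : ℤ)).obj ((Scheme.Modules.pullback π).obj (Coh.structureModule X)))) := by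
  have h1 := isIso_unit 𝔸 (Sga67.TensorOps.isFinLocFree_structureModule (X := X))
  obtain ⟨e⟩ := nonempty_tw_zero hO ((Scheme.Modules.pullback π).obj (Coh.structureModule X))
  rw [Nat.cast_zero]
  let a : Coh.structureModule X ≅
      (pushforward π).obj ((Scheme.Modules.pullback π).obj (Coh.structureModule X)) :=
    @asIso _ _ _ _ ((pullbackPushforwardAdjunction π).unit.app (Coh.structureModule X)) h1
  exact ⟨a ≪≫ (pushforward π).mapIso e.symm⟩

include hKX in
theorem sC_zero (𝔸 : Atlas r π O1 A h) (hO : PicF.IsInvertible O1) : sC φX π hO 0 = 1 := by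
  have hS := Sga67.TensorOps.isFinLocFree_structureModule (X := X)
  obtain ⟨e⟩ := nonempty_unit_iso 𝔸 hO
  have h2 := cl_push_tw_pull hKX 𝔸 hO 0 hS
  rw [hKX.map_one, one_mul] at h2
  rw [← h2]
  exact (congrArg φX (cl_iso e hS).symm).trans hKX.map_one

section Resol

variable {F : P.Modules} (hF : RegB 𝔸 hO F)

include hF

include hKP hg in
/-- One step of the canonical resolution in `K(P)`. -/
theorem cl_L_succ (i : ℕ) : φP (cl P (L π hO F (i + 1))) =
    (ell hKP hO : KP) * (g (eC φX π hO F i) - φP (cl P (L π hO F i))) := by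
  have hR := reg_L hF i
  have hepi := epi_cou hR
  have h1 := Sga67.KvbRing.c_ses (shortExact_seq (π := π) (L π hO F i)) (vb_ker hR)
    (PerfB.FlatPull.isFinLocFree_pullback π hR.vb_push) hR.vb
  have h2 : φP (cl P (kernel (cou π (L π hO F i)))) = g (eC φX π hO F i) - φP (cl P (L π hO F i)) := by
    rw [eC, hg _ hR.vb_push, eq_sub_iff_add_eq, ← map_add]
    exact congrArg φP h1.symm
  have h3 := cl_tw' hKP hO 1 (vb_ker hR)
  rw [h2, zpow_one] at h3
  exact h3

include hKP hg in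
/-- The canonical resolution of a regular bundle in `K(P)`. -/
theorem cl_resol_aux (m : ℕ) : φP (cl P F) * (ell hKP hO : KP) ^ m =
    ∑ i ∈ range m, (-1) ^ i * g (eC φX π hO F i) * (ell hKP hO : KP) ^ (m - i) +
      (-1) ^ m * φP (cl P (L π hO F m)) := by
  induction m with
  | zero => simp [L]
  | succ m ih =>
    rw [pow_succ, ← mul_assoc, ih, add_mul, sum_mul, sum_range_succ, cl_L_succ hKP hg hF m]
    have h1 : ∑ i ∈ range m, (-1) ^ i * g (eC φX π hO F i) * (ell hKP hO : KP) ^ (m - i) * (ell hKP hO : KP) =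
        ∑ i ∈ range m, (-1) ^ i * g (eC φX π hO F i) * (ell hKP hO : KP) ^ (m + 1 - i) := by
      refine sum_congr rfl fun i hi => ?_
      have hi' := mem_range.1 hi
      have e : m + 1 - i = (m - i) + 1 := by omega
      rw [e, pow_succ, mul_assoc]
    rw [h1]
    have e : m + 1 - m = 1 := by omega
    rw [e]
    ring

include hKP hg in
theorem cl_resol : φP (cl P F) * (ell hKP hO : KP) ^ (r + 1) =
    ∑ i ∈ range (r + 1), (-1) ^ i * g (eC φX π hO F i) * (ell hKP hO : KP) ^ (r + 1 - i) := by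
  rw [cl_resol_aux hKP hg hF (r + 1)]
  have h1 : cl P (L π hO F (r + 1)) = 0 := Sga67.K0Basic.clSub_of_isZero (isZero_L hF)
  rw [h1, map_zero, mul_zero, add_zero]

include hKX in
theorem uC_aux (i n : ℕ) : uC φX π hO F i n = eC φX π hO F i * sC φX π hO n -
    φX (cl X ((pushforward π).obj ((tw hO (n : ℤ)).obj (kernel (cou π (L π hO F i)))))) := by
  have hR := reg_L hF i
  have hlim := preservesFiniteLimits_tw hO (n : ℤ)
  have hadd : (tw hO (n : ℤ)).Additive := Functor.additive_of_preserves_binary_products _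
  have h1 := Sga67.KvbRing.c_ses (shortExact_push_tw hR n) (vb_push_ker hR n)
    (isFinLocFree_push_tw_pull 𝔸 hO n hR.vb_push) (hR.push n)
  have h2 := cl_push_tw_pull hKX 𝔸 hO n hR.vb_push
  rw [uC, eC, ← h2, eq_sub_iff_add_eq', ← map_add]
  exact congrArg φX h1.symm

include hKX in
theorem uC_zero (i : ℕ) : uC φX π hO F i 0 = eC φX π hO F i := by
  have hR := reg_L hF i
  obtain ⟨e⟩ := nonempty_tw_zero hO (L π hO F i)
  rw [uC, eC]
  exact congrArg φX (cl_iso ((pushforward π).mapIso e) (hR.push 0))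

include hKX in
theorem uC_succ (i n : ℕ) : uC φX π hO F i (n + 1) =
    eC φX π hO F i * sC φX π hO (n + 1) - uC φX π hO F (i + 1) n := by
  obtain ⟨e⟩ := nonempty_tw_tw hO (n : ℤ) 1 (kernel (cou π (L π hO F i)))
  have h1 := cl_iso ((pushforward π).mapIso e) ((reg_L hF (i + 1)).push n)
  have h2 : uC φX π hO F (i + 1) n =
      φX (cl X ((pushforward π).obj ((tw hO ((n + 1 : ℕ) : ℤ)).obj (kernel (cou π (L π hO F i)))))) :=
    congrArg φX h1
  rw [uC_aux hKX hF i (n + 1), h2]

include hKX in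
theorem uC_eq (m n : ℕ) : uC φX π hO F 0 n =
    ∑ i ∈ range m, (if i ≤ n then (-1) ^ i * eC φX π hO F i * sC φX π hO (n - i) else 0) +
      (if m ≤ n then (-1) ^ m * uC φX π hO F m (n - m) else 0) := by
  induction m with
  | zero => simp
  | succ m ih =>
    rw [ih, sum_range_succ]
    rcases lt_trichotomy m n with hmn | rfl | hmn
    · rw [if_pos hmn.le, if_pos hmn.le, if_pos (by omega : m + 1 ≤ n)]
      obtain ⟨k, rfl⟩ : ∃ k, n = m + k + 1 := ⟨n - m - 1, by omega⟩
      have e1 : m + k + 1 - m = k + 1 := by omega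
      have e2 : m + k + 1 - (m + 1) = k := by omega
      rw [e1, e2, uC_succ hKX hF m k]
      ring
    · rw [if_pos le_rfl, if_pos le_rfl, if_neg (by omega), Nat.sub_self, uC_zero hKX hF m]
      rw [sC_zero hKX 𝔸 hO]
      ring
    · rw [if_neg (by omega), if_neg (by omega), if_neg (by omega)]
      simp

include hKX in
theorem uC_resol (n : ℕ) : uC φX π hO F 0 n =
    ∑ i ∈ range (r + 1), (if i ≤ n then (-1) ^ i * eC φX π hO F i * sC φX π hO (n - i) else 0) := by
  rw [uC_eq hKX hF (r + 1) n]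
  have hz : uC φX π hO F (r + 1) (n - (r + 1)) = 0 := by
    have hlim := preservesFiniteLimits_tw hO ((n - (r + 1) : ℕ) : ℤ)
    have hadd : (tw hO ((n - (r + 1) : ℕ) : ℤ)).Additive := Functor.additive_of_preserves_binary_products _
    have h1 : IsZero ((pushforward π).obj ((tw hO ((n - (r + 1) : ℕ) : ℤ)).obj (L π hO F (r + 1)))) :=
      (pushforward π).map_isZero ((tw hO _).map_isZero (isZero_L hF))
    rw [uC]
    have h2 : cl X _ = 0 := Sga67.K0Basic.clSub_of_isZero h1
    rw [h2, map_zero]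
  rw [hz, mul_zero, ite_self, add_zero]

end Resol

/-- The bundle `O1` in the form `O1 ⊗ π^* O`. -/
noncomputable def F0 (π : P ⟶ X) (hO : PicF.IsInvertible O1) : P.Modules :=
  (tw hO 1).obj ((Scheme.Modules.pullback π).obj (Coh.structureModule X))

theorem reg_F0 (𝔸 : Atlas r π O1 A h) (hO : PicF.IsInvertible O1) : RegB 𝔸 hO (F0 π hO) :=
  (fs_reg 𝔸 hO _ Sga67.TensorOps.isFinLocFree_structureModule).tw 1

include hKX hKP hg in
theorem cl_F0 (hO : PicF.IsInvertible O1) : φP (cl P (F0 π hO)) = (ell hKP hO : KP) := by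
  have h1 := cl_tw' hKP hO 1 (PerfB.FlatPull.isFinLocFree_pullback π
    (Sga67.TensorOps.isFinLocFree_structureModule (X := X)))
  rw [zpow_one, ← hg _ Sga67.TensorOps.isFinLocFree_structureModule, hKX.map_one, pull_one hKP hKX hg, mul_one] at h1
  exact h1

include hKX in
theorem uC_F0 (𝔸 : Atlas r π O1 A h) (hO : PicF.IsInvertible O1) (n : ℕ) :
    uC φX π hO (F0 π hO) 0 n = sC φX π hO (n + 1) := by
  have h2 := cl_push_tw_pull hKX 𝔸 hO (n + 1) (Sga67.TensorOps.isFinLocFree_structureModule (X := X))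
  rw [hKX.map_one, one_mul] at h2
  obtain ⟨e⟩ := nonempty_tw_tw hO (n : ℤ) 1 ((Scheme.Modules.pullback π).obj (Coh.structureModule X))
  have h3 := cl_iso ((pushforward π).mapIso e) ((reg_F0 𝔸 hO).push n)
  rw [← h2, uC]
  exact congrArg φX h3

include hKX in
/-- The recursion for `s n = [π_* O1^{⊗ n}]`. -/
theorem sC_rec (𝔸 : Atlas r π O1 A h) (hO : PicF.IsInvertible O1) (n : ℕ) : sC φX π hO (n + 1) =
    ∑ i ∈ range (r + 1), (if i ≤ n then (-1) ^ i * eC φX π hO (F0 π hO) i * sC φX π hO (n - i) else 0) := by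
  rw [← uC_F0 hKX 𝔸 hO n]
  exact uC_resol hKX (reg_F0 𝔸 hO) n

include hKX in
/-- The last class of the canonical resolution of `O1` is a unit. -/
theorem isUnit_eC [ConnectedSpace X] (𝔸 : Atlas r π O1 A h) (hO : PicF.IsInvertible O1) :
    IsUnit (eC φX π hO (F0 π hO) r) := by
  obtain ⟨m, hm⟩ := H495.Rank.exists_rank_of_connected ((reg_L (reg_F0 𝔸 hO) r).vb_push)
  have haug : ∀ n, PX.aug (sC φX π hO n) = ((n + r).choose r : ℕ) := fun n =>
    hKX.aug_cl _ _ (rank_push_pw 𝔸 hO n)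
  have h1 : PX.aug (eC φX π hO (F0 π hO) r) = 1 := by
    refine Alg.rank_eq_one r (fun i => PX.aug (eC φX π hO (F0 π hO) i)) fun n => ?_
    have h2 := congrArg PX.aug (sC_rec hKX 𝔸 hO n)
    rw [haug, map_sum] at h2
    rw [h2]
    refine sum_congr rfl fun i _ => ?_
    split_ifs
    · rw [map_mul, map_mul, map_pow, map_neg, map_one, haug]
    · rw [map_zero]
  have h2 : PX.aug (eC φX π hO (F0 π hO) r) = m := hKX.aug_cl m _ hm
  have h3 : m = 1 := by
    have := h2.symm.trans h1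
    exact_mod_cast this
  subst h3
  have h4 : eC φX π hO (F0 π hO) r ∈ PX.pos := (hKX.mem_pos_iff _).2 ⟨1, _, le_rfl, hm, rfl⟩
  have h5 := PX.isUnit_lam _ h4
  rw [h1, Int.toNat_one, LambdaRing.LambdaOps.lam_one] at h5
  exact h5

end Main

end Groth.Agent.Krr.H488.KThy
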