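import Groth.Agent.Grpsch.PicGrp
import Groth.Agent.Sga67.TwistOver
import Groth.Agent.Sga67.TwistProj

/-!
# Integral powers of an invertible module

For an invertible `L` on `X` a family `pw hL d`, `d : ℤ`, of invertible modules with `pw 0 ≅ O`, `pw 1 ≅ L`,
`pw a ⊗ pw b ≅ pw (a + b)`, compatible with pullbacks, and the functors `tw hL d = pw hL d ⊗ -`.
-/

set_option autoImplicit false

universe u

open CategoryTheory CategoryTheory.Limits AlgebraicGeometry

namespace Groth.Agent.Krr.H488.PicZ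

open Groth.Agent.Grpsch.PicGrp Groth.Agent.Fdesc.LocGen

variable {X Y : Scheme.{u}} {L : X.Modules} (hL : PicF.IsInvertible L)

/-- `L^{⊗ d}` for `d : ℤ`. -/
noncomputable def pw (d : ℤ) : X.Modules := (exists_mk ((mk L hL) ^ d)).choose

theorem isInvertible_pw (d : ℤ) : PicF.IsInvertible (pw hL d) :=
  (exists_mk ((mk L hL) ^ d)).choose_spec.choose

theorem mk_pw (d : ℤ) : mk (pw hL d) (isInvertible_pw hL d) = mk L hL ^ d :=
  (exists_mk ((mk L hL) ^ d)).choose_spec.choose_spec.symm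

theorem nonempty_pw_mul (a b : ℤ) :
    Nonempty (CohB1.tensorMod (pw hL a) (pw hL b) ≅ pw hL (a + b)) := by
  refine (mk_eq_iff (isInvertible_tensorMod (isInvertible_pw hL a) (isInvertible_pw hL b))
    (isInvertible_pw hL (a + b))).1 ?_
  rw [← mk_mul_mk (isInvertible_pw hL a) (isInvertible_pw hL b), mk_pw, mk_pw, mk_pw, zpow_add]

theorem nonempty_pw_zero : Nonempty (pw hL 0 ≅ Coh.structureModule X) := by
  rw [← mk_eq_one_iff (isInvertible_pw hL 0), mk_pw, zpow_zero]

theorem nonempty_pw_one : Nonempty (pw hL 1 ≅ L) := by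
  rw [← mk_eq_iff (isInvertible_pw hL 1) hL, mk_pw, zpow_one]

/-- Compatibility with pullback. -/
theorem nonempty_pullback_pw (f : Y ⟶ X) {L' : Y.Modules} (hL' : PicF.IsInvertible L')
    (e : Nonempty ((Scheme.Modules.pullback f).obj L ≅ L')) (d : ℤ) :
    Nonempty ((Scheme.Modules.pullback f).obj (pw hL d) ≅ pw hL' d) := by
  refine (mk_eq_iff (isInvertible_pullback f (isInvertible_pw hL d)) (isInvertible_pw hL' d)).1 ?_
  rw [← pull_mk f (isInvertible_pw hL d), mk_pw, mk_pw, map_zpow, pull_mk]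
  congr 1
  exact (mk_eq_iff _ _).2 e

theorem nonempty_pw_iso {M : X.Modules} (hM : PicF.IsInvertible M) (e : Nonempty (L ≅ M)) (d : ℤ) :
    Nonempty (pw hL d ≅ pw hM d) := by
  rw [← mk_eq_iff (isInvertible_pw hL d) (isInvertible_pw hM d), mk_pw, mk_pw]
  congr 1
  exact (mk_eq_iff _ _).2 e

/-- On `P^r_A` the powers of `O(1)` are the `O(d)`. -/
theorem nonempty_pw_twist (r : ℕ) (A : Type u) [CommRing A] (d : ℤ) :
    Nonempty (pw (Ega3B.ProjFrame.isInvertible_twistProjSpace r A 1) d ≅ Twist.twistProjSpace r A d) := by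
  have hinv := fun d : ℤ => Ega3B.ProjFrame.isInvertible_twistProjSpace r A d
  let φ : Multiplicative ℤ → Pic (CohB1.ProjSpace r A) := fun d => mk _ (hinv d.toAdd)
  have hmul : ∀ a b : ℤ, mk _ (hinv (a + b)) = mk _ (hinv a) * mk _ (hinv b) := by
    intro a b
    rw [mk_mul_mk, eq_comm, mk_eq_iff]
    exact Sga67.TwistProj.nonempty_mul r A a b
  have h0 : mk _ (hinv 0) = 1 := by
    have h2 := hmul 0 0
    rw [add_zero] at h2
    exact mul_left_cancel (h2.symm.trans (mul_one _).symm)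
  let ψ : Multiplicative ℤ →* Pic (CohB1.ProjSpace r A) :=
    { toFun := fun d => mk _ (hinv d.toAdd)
      map_one' := h0
      map_mul' := fun a b => hmul _ _ }
  have h1 : ∀ d : ℤ, mk _ (hinv d) = mk _ (hinv 1) ^ d := by
    intro d
    have := map_zpow ψ (Multiplicative.ofAdd 1) d
    rw [← ofAdd_zsmul, smul_eq_mul, mul_one] at this
    exact this
  rw [← mk_eq_iff (isInvertible_pw _ d) (hinv d), mk_pw]
  exact (h1 d).symm

section Tw

/-- Tensoring with `L^{⊗ d}`. -/
noncomputable abbrev tw (d : ℤ) : X.Modules ⥤ X.Modules := (DCoh.tensorBi (X := X)).obj (pw hL d)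

theorem nonempty_tw_tw (i j : ℤ) (M : X.Modules) :
    Nonempty ((tw hL i).obj ((tw hL j).obj M) ≅ (tw hL (i + j)).obj M) := by
  obtain ⟨e⟩ := nonempty_pw_mul hL i j
  exact ⟨(Ega2.Tens.assoc (pw hL i) (pw hL j) M).symm ≪≫ Ega2.Tens.mapTIso e (Iso.refl M)⟩

theorem nonempty_tw_zero (M : X.Modules) : Nonempty ((tw hL 0).obj M ≅ M) := by
  obtain ⟨e⟩ := nonempty_pw_zero hL
  exact ⟨Ega2.Tens.mapTIso e (Iso.refl M) ≪≫ Ega2.Tens.lunit M⟩

theorem isFlat_pw (i : ℤ) : FlatMod.IsFlat (pw hL i) :=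
  Ega3B.SectExact.isFlat_of_isInvertible (isInvertible_pw hL i)

theorem preservesFiniteLimits_tw (i : ℤ) : PreservesFiniteLimits (tw hL i) :=
  Dcoh.Stalk.preservesFiniteLimits_tensorBi_obj _ (isFlat_pw hL i)

theorem preservesFiniteColimits_tw (i : ℤ) : PreservesFiniteColimits (tw hL i) :=
  Dcoh.Stalk.preservesFiniteColimits_tensorBi_obj _

theorem isFinLocFree_tw (i : ℤ) (M : X.Modules) (hM : FlatMod.IsFinLocFree M) :
    FlatMod.IsFinLocFree ((tw hL i).obj M) :=
  Sga67.TwistOver.isFinLocFree_tensorMod_of_isInvertible (isInvertible_pw hL i) hM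

end Tw

end Groth.Agent.Krr.H488.PicZ
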