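import Groth.Agent.Krr.H488.Atlas
import Groth.Agent.Sga67.HypFields559
import Groth.Agent.Sga67.SerreVB2

/-!
# Regular bundles on a projective bundle with an atlas, and the canonical resolution
-/

set_option autoImplicit false

universe u

open CategoryTheory CategoryTheory.Limits AlgebraicGeometry

namespace Groth.Agent.Krr.H488.RegB

open Groth.Agent.Krr.H488.PicZ Groth.Agent.Krr.H488.Chart Groth.Agent.Krr.H488.Atlas
open Groth.Agent.Sga67.CMReg Groth.Agent.Sga67.TwistProj Groth.Agent.Sga67.RegResol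
  Groth.Agent.Sga67 Groth.Agent.Fga.HShift
open Scheme.Modules

variable {r : ℕ} {X P : Scheme.{u}} {π : P ⟶ X} {O1 : P.Modules} {ι : Type} {A : ι → Type u}
  [∀ i, CommRing (A i)] {h : ∀ i, Spec (CommRingCat.of (A i)) ⟶ X} [∀ i, IsOpenImmersion (h i)]
  (𝔸 : Atlas r π O1 A h) (hO : PicF.IsInvertible O1)

/-- Regular bundles on `P` with respect to an atlas. -/
structure RegB (F : P.Modules) : Prop where
  vb : FlatMod.IsFinLocFree F
  reg : ∀ i, Reg (F.restrict (𝔸.j i)) 0
  push : ∀ n : ℕ, FlatMod.IsFinLocFree ((pushforward π).obj ((tw hO (n : ℤ)).obj F))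

/-- The counit. -/
noncomputable abbrev cou (π : P ⟶ X) (F : P.Modules) :
    (Scheme.Modules.pullback π).obj ((pushforward π).obj F) ⟶ F :=
  (pullbackPushforwardAdjunction π).counit.app F

/-- The sequence `0 ⟶ K ⟶ π^* π_* F ⟶ F ⟶ 0`. -/
noncomputable abbrev seq (π : P ⟶ X) (F : P.Modules) : ShortComplex P.Modules :=
  ShortComplex.mk (kernel.ι (cou π F)) (cou π F) (kernel.condition _)

omit [∀ i, CommRing (A i)] [∀ i, IsOpenImmersion (h i)] in
theorem shortExact_seq (F : P.Modules) [Epi (cou π F)] : (seq π F).ShortExact where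
  exact := ShortComplex.exact_of_f_is_kernel _ (kernelIsKernel _)
  mono_f := inferInstanceAs (Mono (kernel.ι (cou π F)))
  epi_g := inferInstanceAs (Epi (cou π F))

variable {𝔸 hO}

theorem isQCoh_restrict {F : P.Modules} (hF : FlatMod.IsFinLocFree F) (i : ι) :
    Coh.IsQCoh (F.restrict (𝔸.j i)) :=
  PerfA.QCohEpi.isQCoh_of_isFinLocFree (Dcoh.FinLocFree.isFinLocFree_restrict hF _)

theorem RegB.hh {F : P.Modules} (hF : RegB 𝔸 hO F) (i : ι) (q : ℕ) (hq : 1 ≤ q) (d : ℤ) (hd : -(q : ℤ) ≤ d) :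
    Subsingleton (Coh.HH (CohB1.ProjSpace r (A i)) (((tw hO d).obj F).restrict (𝔸.j i)) q) := by
  rw [hh_tw_iff hO (𝔸.iso1 i), ← hh_iff]
  exact CMReg.subsingleton_HH (isQCoh_restrict hF.vb i) (hF.reg i) q hq d (by omega)

theorem RegB.hh_zero {F : P.Modules} (hF : RegB 𝔸 hO F) (i : ι) (q : ℕ) (hq : 1 ≤ q) :
    Subsingleton (Coh.HH (CohB1.ProjSpace r (A i)) (F.restrict (𝔸.j i)) q) := by
  have h1 := (hh_tw_iff hO (𝔸.iso1 i) F 0 q).1 (hF.hh i q hq 0 (by omega))
  exact (hh_tA_zero q).1 h1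

/-- `π_*` of a regular bundle is a bundle. -/
theorem RegB.vb_push {F : P.Modules} (hF : RegB 𝔸 hO F) : FlatMod.IsFinLocFree ((pushforward π).obj F) := by
  obtain ⟨e⟩ := nonempty_tw_zero hO F
  exact Dcoh.FinLocFree.isFinLocFree_of_iso ((pushforward π).mapIso e) (hF.push 0)

/-- Regularity is invariant under isomorphisms. -/
theorem RegB.of_iso {F F' : P.Modules} (e : F ≅ F') (hF : RegB 𝔸 hO F) : RegB 𝔸 hO F' where
  vb := Dcoh.FinLocFree.isFinLocFree_of_iso e hF.vb
  reg i := reg_of_iso ((restrictFunctor (𝔸.j i)).mapIso e) (hF.reg i)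
  push n := Dcoh.FinLocFree.isFinLocFree_of_iso ((pushforward π).mapIso ((tw hO (n : ℤ)).mapIso e)) (hF.push n)

/-- Nonnegative twists of regular bundles are regular. -/
theorem RegB.tw {F : P.Modules} (hF : RegB 𝔸 hO F) (n : ℕ) : RegB 𝔸 hO ((tw hO (n : ℤ)).obj F) where
  vb := isFinLocFree_tw hO _ F hF.vb
  reg i := by
    obtain ⟨e⟩ := nonempty_tw_restrict hO (𝔸.iso1 i) (n : ℤ) F
    refine reg_of_iso e.symm ?_
    rw [reg_tA _ n 0 n (by omega)]
    exact (hF.reg i).mono (isQCoh_restrict hF.vb i) (by omega)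
  push k := by
    obtain ⟨e⟩ := nonempty_tw_tw hO (k : ℤ) (n : ℤ) F
    refine Dcoh.FinLocFree.isFinLocFree_of_iso ((pushforward π).mapIso e).symm ?_
    exact hF.push (k + n)

section Push

/-- The direct image of a short exact sequence of bundles whose first term is regular. -/
theorem shortExact_push {C : ShortComplex P.Modules} (hC : C.ShortExact)
    (h1 : RegB 𝔸 hO C.X₁) (h3 : FlatMod.IsFinLocFree C.X₃) :
    (C.map (pushforward π)).ShortExact := by
  refine HypFields559.shortExact_push_of_epi _ hC ?_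
  refine PushLocal.epi_pushforward_map 𝔸.surj 𝔸.isPullback C.g fun i => ?_
  have hprop := Ega3B.ProjProper.isProper_toSpec r (A i)
  have hT : (C.map (restrictFunctor (𝔸.j i))).ShortExact := hC.map_of_exact _
  exact HypFields559.epi_push_of_H1 _ hT (isQCoh_restrict h3 i) (h1.hh_zero i 1 le_rfl)

/-- `π_* F` is a vector bundle if this holds on the charts, cohomological form. -/
theorem push_of_charts (𝔸 : Atlas r π O1 A h) (F : P.Modules) (hF : FlatMod.IsFinLocFree F)
    (hvan : ∀ i, ∀ q, 1 ≤ q → Subsingleton (Coh.HH (CohB1.ProjSpace r (A i)) (F.restrict (𝔸.j i)) q))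
    (hfp : ∀ i, Module.FinitePresentation Γ(Spec (CommRingCat.of (A i)), ⊤)
      Γ((pushforward (CohB1.ProjSpace.toSpec r (A i))).obj (F.restrict (𝔸.j i)), ⊤)) :
    FlatMod.IsFinLocFree ((pushforward π).obj F) :=
  PushLocal.isFinLocFree_pushforward 𝔸.surj 𝔸.isPullback F fun i =>
    PushFlat.isFinLocFree_push_projSpace r (A i) _ (Dcoh.FinLocFree.isFinLocFree_restrict hF _) (hvan i) (hfp i)

/-- Serre: large twists of bundles are regular. -/
theorem reg_mem [Finite ι] (𝔸 : Atlas r π O1 A h) (hO : PicF.IsInvertible O1)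
    (hserre : ∀ i, HypFields559.SerreProp r (A i)) (F : P.Modules) (hF : FlatMod.IsFinLocFree F) :
    ∃ n₀ : ℕ, ∀ n : ℕ, n₀ ≤ n → RegB 𝔸 hO ((PicZ.tw hO (n : ℤ)).obj F) := by
  have key : ∀ i, ∃ m : ℕ, ∀ n : ℤ, (m : ℤ) ≤ n →
      (∀ q, 1 ≤ q → Subsingleton (Coh.HH (CohB1.ProjSpace r (A i))
        ((tA r (A i) n).obj (F.restrict (𝔸.j i))) q)) ∧
      Module.FinitePresentation Γ(Spec (CommRingCat.of (A i)), ⊤)
        Γ((pushforward (CohB1.ProjSpace.toSpec r (A i))).obj
          ((tA r (A i) n).obj (F.restrict (𝔸.j i))), ⊤) := fun i =>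
    hserre i _ (Dcoh.FinLocFree.isFinLocFree_restrict hF _)
  choose m hm using key
  cases nonempty_fintype ι
  obtain ⟨N, hN⟩ : ∃ N : ℕ, ∀ i, m i ≤ N := ⟨Finset.univ.sup m, fun i => Finset.le_sup (Finset.mem_univ i)⟩
  refine ⟨N + r, fun n hn => ?_⟩
  have hm' : ∀ i (k : ℤ), (N : ℤ) ≤ k → _ := fun i k hk =>
    hm i k ((Int.ofNat_le.2 (hN i)).trans hk)
  refine ⟨isFinLocFree_tw hO n F hF, fun i => ?_, fun k => ?_⟩
  · have h1 : Reg ((tA r (A i) n).obj (F.restrict (𝔸.j i))) 0 := by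
      rw [reg_tA _ n 0 n (by omega), reg_iff]
      intro q h1 h2
      exact (hm' i (n - q) (by omega)).1 q h1
    obtain ⟨e⟩ := nonempty_tw_restrict hO (𝔸.iso1 i) (n : ℤ) F
    exact reg_of_iso e.symm h1
  · obtain ⟨e⟩ := nonempty_tw_tw hO (k : ℤ) (n : ℤ) F
    refine Dcoh.FinLocFree.isFinLocFree_of_iso ((pushforward π).mapIso e).symm ?_
    refine push_of_charts 𝔸 _ (isFinLocFree_tw hO _ F hF) (fun i q hq => ?_) fun i => ?_
    · rw [hh_tw_iff hO (𝔸.iso1 i)]
      exact (hm' i (k + n) (by omega)).1 q hq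
    · obtain ⟨e⟩ := nonempty_tw_restrict hO (𝔸.iso1 i) ((k : ℤ) + n) F
      exact HypFields559.finitePresentation_of_iso
        ((pushforward (CohB1.ProjSpace.toSpec r (A i))).mapIso e).symm (hm' i (k + n) (by omega)).2

/-- `O1 ⊗ π^* E` is regular, even `π^* E`. -/
theorem fs_reg (𝔸 : Atlas r π O1 A h) (hO : PicF.IsInvertible O1) (E : X.Modules)
    (hE : FlatMod.IsFinLocFree E) : RegB 𝔸 hO ((Scheme.Modules.pullback π).obj E) := by
  have hf : FlatMod.IsFinLocFree ((Scheme.Modules.pullback π).obj E) :=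
    PerfB.FlatPull.isFinLocFree_pullback _ hE
  refine ⟨hf, fun i => ?_, fun n => isFinLocFree_push_tw_pull 𝔸 hO n hE⟩
  rw [reg_iff]
  intro q hq hq'
  refine subsingleton_of_iso ((tA r (A i) (0 - q)).mapIso (midIso (𝔸.isPullback i) E).symm) q ?_
  exact hh_pullback_pos _ (PerfB.FlatPull.isFinLocFree_pullback (h i) hE) (0 - q) (by omega) q hq

end Push

section Step

theorem epi_cou {F : P.Modules} (hF : RegB 𝔸 hO F) : Epi (cou π F) :=
  PushLocal.epi_counit 𝔸.surj 𝔸.isPullback F fun i =>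
    epi_counit_self (isQCoh_restrict hF.vb i) (hF.reg i) _

theorem isIso_push_cou {F : P.Modules} (hF : RegB 𝔸 hO F) : IsIso ((pushforward π).map (cou π F)) := by
  have h1 := isIso_unit 𝔸 hF.vb_push
  have h2 := (pullbackPushforwardAdjunction π).right_triangle_components F
  exact IsIso.of_isIso_fac_left h2

/-- the restriction of `seq F` to a chart -/
noncomputable abbrev cseq (𝔸 : Atlas r π O1 A h) (F : P.Modules) (i : ι) :
    ShortComplex (CohB1.ProjSpace r (A i)).Modules :=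
  (seq π F).map (restrictFunctor (𝔸.j i))

theorem shortExact_cseq {F : P.Modules} (hF : RegB 𝔸 hO F) (i : ι) : (cseq 𝔸 F i).ShortExact := by
  have := epi_cou hF
  exact (shortExact_seq F).map_of_exact _

/-- the middle term on a chart -/
noncomputable def cmid (𝔸 : Atlas r π O1 A h) (F : P.Modules) (i : ι) :
    (cseq 𝔸 F i).X₂ ≅ (Scheme.Modules.pullback (CohB1.ProjSpace.toSpec r (A i))).obj
      ((Scheme.Modules.pullback (h i)).obj ((pushforward π).obj F)) :=
  midIso (𝔸.isPullback i) _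

theorem reg_cker {F : P.Modules} (hF : RegB 𝔸 hO F) (i : ι) :
    Reg ((kernel (cou π F)).restrict (𝔸.j i)) 1 := by
  have h1 := isIso_push_cou hF
  exact reg_one (T := cseq 𝔸 F i) (PerfC.PullRestrict.isFinLocFree_pullback (h i) hF.vb_push)
    (shortExact_cseq hF i) (cmid 𝔸 F i) (hF.reg i) (bijective_chart (𝔸.isPullback i) (cou π F)).2

theorem vb_ker {F : P.Modules} (hF : RegB 𝔸 hO F) : FlatMod.IsFinLocFree (kernel (cou π F)) := by
  have := epi_cou hF
  exact Dcoh.Spread.isFinLocFree_kernel (cou π F)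
    (PerfC.PullRestrict.isFinLocFree_pullback _ hF.vb_push) hF.vb

/-- `π_* (π^* π_* F)(n) ⟶ π_* F(n)` is an epimorphism. -/
theorem epi_push_tw {F : P.Modules} (hF : RegB 𝔸 hO F) (n : ℕ) :
    Epi ((pushforward π).map ((tw hO (n : ℤ)).map (cou π F))) := by
  have hlim := preservesFiniteLimits_tw hO (n : ℤ)
  have hcolim := preservesFiniteColimits_tw hO (n : ℤ)
  have hadd : (tw hO (n : ℤ)).Additive := Functor.additive_of_preserves_binary_products _
  have hepi := epi_cou hF
  refine PushLocal.epi_pushforward_map 𝔸.surj 𝔸.isPullback _ fun i => ?_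
  have hq1 : Coh.IsQCoh (((tw hO (n : ℤ)).obj F).restrict (𝔸.j i)) :=
    isQCoh_restrict (isFinLocFree_tw hO _ F hF.vb) i
  have hprop := Ega3B.ProjProper.isProper_toSpec r (A i)
  refine Ega1.QCohSpec.epi_of_surjective_app_top _ (Ega1.QcqsPush.isQCoh_pushforward _ _ hq1) ?_
  have hT : (((seq π F).map (tw hO (n : ℤ))).map (restrictFunctor (𝔸.j i))).ShortExact :=
    ((shortExact_seq F).map_of_exact _).map_of_exact _
  have h1 := subsingleton_HH (isQCoh_restrict (𝔸 := 𝔸) (vb_ker hF) i) (reg_cker hF i) 1 le_rfl (n : ℤ)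
    (by push_cast; omega)
  rw [hh_iff] at h1
  obtain ⟨e⟩ := nonempty_tw_restrict hO (𝔸.iso1 i) (n : ℤ) (kernel (cou π F))
  exact CohqB.TwistMono.surjective_of_H1 hT (subsingleton_of_iso e.symm 1 h1)

/-- `0 ⟶ π_* K(n) ⟶ π_* (π^* π_* F)(n) ⟶ π_* F(n) ⟶ 0` is exact for `n ≥ 0`. -/
theorem shortExact_push_tw {F : P.Modules} (hF : RegB 𝔸 hO F) (n : ℕ)
    [(tw hO (n : ℤ)).Additive] :
    (((seq π F).map (tw hO (n : ℤ))).map (pushforward π)).ShortExact := by
  have hlim := preservesFiniteLimits_tw hO (n : ℤ)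
  have hcolim := preservesFiniteColimits_tw hO (n : ℤ)
  have hepi := epi_cou hF
  exact HypFields559.shortExact_push_of_epi _ ((shortExact_seq F).map_of_exact _) (epi_push_tw hF n)

theorem vb_push_ker {F : P.Modules} (hF : RegB 𝔸 hO F) (n : ℕ) :
    FlatMod.IsFinLocFree ((pushforward π).obj ((tw hO (n : ℤ)).obj (kernel (cou π F)))) := by
  have hlim := preservesFiniteLimits_tw hO (n : ℤ)
  have hcolim := preservesFiniteColimits_tw hO (n : ℤ)
  have hadd : (tw hO (n : ℤ)).Additive := Functor.additive_of_preserves_binary_products _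
  have hepi := epi_push_tw hF n
  let e : (pushforward π).obj ((tw hO (n : ℤ)).obj (kernel (cou π F))) ≅
      kernel ((pushforward π).map ((tw hO (n : ℤ)).map (cou π F))) :=
    (pushforward π).mapIso (PreservesKernel.iso (tw hO (n : ℤ)) (cou π F)) ≪≫
      PreservesKernel.iso (pushforward π) ((tw hO (n : ℤ)).map (cou π F))
  exact Dcoh.FinLocFree.isFinLocFree_of_iso e.symm
    (Dcoh.Spread.isFinLocFree_kernel _ (isFinLocFree_push_tw_pull 𝔸 hO n hF.vb_push) (hF.push n))

/-- `π_* K = 0`. -/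
theorem isZero_push_ker {F : P.Modules} (hF : RegB 𝔸 hO F) :
    IsZero ((pushforward π).obj (kernel (cou π F))) := by
  have h1 := isIso_push_cou hF
  let e : (pushforward π).obj (kernel (cou π F)) ≅ kernel ((pushforward π).map (cou π F)) :=
    PreservesKernel.iso (pushforward π) (cou π F)
  exact (isZero_kernel_of_mono _).of_iso e

/-- The next term of the resolution is regular. -/
theorem reg_next {F : P.Modules} (hF : RegB 𝔸 hO F) : RegB 𝔸 hO ((tw hO 1).obj (kernel (cou π F))) where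
  vb := isFinLocFree_tw hO _ _ (vb_ker hF)
  reg i := by
    obtain ⟨e⟩ := nonempty_tw_restrict hO (𝔸.iso1 i) 1 (kernel (cou π F))
    exact reg_of_iso e.symm ((reg_tA _ 1 0 1 (by norm_num)).2 (reg_cker hF i))
  push n := by
    obtain ⟨e⟩ := nonempty_tw_tw hO (n : ℤ) 1 (kernel (cou π F))
    refine Dcoh.FinLocFree.isFinLocFree_of_iso ((pushforward π).mapIso e).symm ?_
    exact vb_push_ker hF (n + 1)

theorem van_next {F : P.Modules} (hF : RegB 𝔸 hO F) {m : ℕ} (hm : m ≤ r) (i : ι)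
    (hv : Van m (F.restrict (𝔸.j i))) :
    Van (m + 1) (((tw hO 1).obj (kernel (cou π F))).restrict (𝔸.j i)) := by
  have h1 := isIso_push_cou hF
  obtain ⟨e⟩ := nonempty_tw_restrict hO (𝔸.iso1 i) 1 (kernel (cou π F))
  exact van_of_iso e.symm
    (van_succ (T := cseq 𝔸 F i) (PerfC.PullRestrict.isFinLocFree_pullback (h i) hF.vb_push)
      (shortExact_cseq hF i) (cmid 𝔸 F i) (isQCoh_restrict hF.vb i) (hF.reg i)
      (bijective_chart (𝔸.isPullback i) (cou π F)) hm hv)

/-- The terms of the resolution. -/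
noncomputable def L (π : P ⟶ X) (hO : PicF.IsInvertible O1) (F : P.Modules) : ℕ → P.Modules
  | 0 => F
  | n + 1 => (tw hO 1).obj (kernel (cou π (L π hO F n)))

theorem reg_L {F : P.Modules} (hF : RegB 𝔸 hO F) (n : ℕ) : RegB 𝔸 hO (L π hO F n) := by
  induction n with
  | zero => exact hF
  | succ n ih => exact reg_next ih

theorem van_L {F : P.Modules} (hF : RegB 𝔸 hO F) (n : ℕ) (hn : n ≤ r + 1) (i : ι) :
    Van n ((L π hO F n).restrict (𝔸.j i)) := by
  induction n with
  | zero => exact van_zero _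
  | succ n ih => exact van_next (reg_L hF n) (by omega) i (ih (by omega))

theorem isZero_L {F : P.Modules} (hF : RegB 𝔸 hO F) : IsZero (L π hO F (r + 1)) := by
  refine PerfA.Restrict.isZero_of_restrict _ fun x => ?_
  obtain ⟨i, hi⟩ := PushLocal.cover_source 𝔸.surj 𝔸.isPullback x
  obtain ⟨y, hy⟩ := hi
  exact ⟨_, 𝔸.j i, inferInstance, y, hy,
    isZero_of_van (isQCoh_restrict (reg_L hF (r + 1)).vb i) (van_L hF (r + 1) le_rfl i)⟩

end Step

end Groth.Agent.Krr.H488.RegB
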